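import Groth.Agent.GIT36.Proj.StableVec
import Groth.Agent.Hopf34.Fin
import Groth.Agent.GIT36.HM.Setup
import Mathlib.RingTheory.ZariskisMainTheorem
import Mathlib.RingTheory.Jacobson.Ring

/-!
An action of a linearly reductive group on an affine scheme with finite stabilisers is proper:
the orbit map `A ⊗ R` is finite over `R ⊗ R`.
-/

set_option autoImplicit false
set_option linter.style.haveILetI false
set_option linter.unusedSectionVars false

universe u

open TensorProduct WithConv

noncomputable section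

namespace Groth.Agent.GIT36.FinAction

variable {k : Type u} [Field k] {A : Type u} [CommRing A] [HopfAlgebra k A]
  {R : Type u} [CommRing R] [Algebra k R]

variable (k A R) in
/-- left translation, as an algebra map -/
def transCoact : A ⊗[k] R →ₐ[k] (A ⊗[k] R) ⊗[k] A :=
  Algebra.TensorProduct.lift
    ((Algebra.TensorProduct.map Algebra.TensorProduct.includeLeft (AlgHom.id k A)).comp (Bialgebra.comulAlgHom k A))
    (Algebra.TensorProduct.includeLeft.comp Algebra.TensorProduct.includeRight)
    (fun _ _ => Commute.all _ _)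

/-- `a ↦ a ⊗ r` -/
def inl (r : R) : A →ₗ[k] A ⊗[k] R := (TensorProduct.mk k A R).flip r

theorem transCoact_tmul (a : A) (r : R) :
    transCoact k A R (a ⊗ₜ r) = TensorProduct.map (inl r) LinearMap.id (CoalgebraStruct.comul (R := k) a) := by
  simp only [transCoact, Algebra.TensorProduct.lift_tmul, AlgHom.comp_apply, Bialgebra.comulAlgHom_apply,
    Algebra.TensorProduct.includeRight_apply, Algebra.TensorProduct.includeLeft_apply]
  generalize CoalgebraStruct.comul (R := k) a = z
  induction z with
  | zero => simp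
  | add p q hp hq => simp only [map_add, add_mul, hp, hq]
  | tmul p q => simp [inl]

variable (k A R) in
/-- left translation -/
@[reducible] def transComod : HopfRep.Comod k A (A ⊗[k] R) where
  coact := (transCoact k A R).toLinearMap
  coassoc := by
    refine TensorProduct.ext' fun a r => ?_
    simp only [LinearMap.comp_apply, LinearEquiv.coe_coe, AlgHom.toLinearMap_apply, transCoact_tmul]
    have h := LinearMap.congr_fun (Coalgebra.coassoc (R := k) (A := A)) a
    simp only [LinearMap.comp_apply, LinearEquiv.coe_coe] at h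
    have L1 : ∀ z : A ⊗[k] A, TensorProduct.assoc k (A ⊗[k] R) A A
        ((transCoact k A R).toLinearMap.rTensor A (TensorProduct.map (inl r) LinearMap.id z)) =
          TensorProduct.map (inl r) LinearMap.id
            (TensorProduct.assoc k A A A ((CoalgebraStruct.comul (R := k) (A := A)).rTensor A z)) := by
      intro z
      induction z with
      | zero => simp
      | add p q hp hq => simp only [map_add, hp, hq]
      | tmul p q =>
        simp only [TensorProduct.map_tmul, LinearMap.rTensor_tmul, LinearMap.id_apply, AlgHom.toLinearMap_apply]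
        rw [show inl (k := k) r p = p ⊗ₜ[k] r from rfl, transCoact_tmul]
        generalize CoalgebraStruct.comul (R := k) p = w
        induction w with
        | zero => simp
        | add x y hx hy => simp only [map_add, add_tmul, hx, hy]
        | tmul x y => simp
    have L2 : ∀ z : A ⊗[k] A, (CoalgebraStruct.comul (R := k) (A := A)).lTensor (A ⊗[k] R)
        (TensorProduct.map (inl r) LinearMap.id z) =
          TensorProduct.map (inl r) LinearMap.id ((CoalgebraStruct.comul (R := k) (A := A)).lTensor A z) := by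
      intro z
      induction z with
      | zero => simp
      | add p q hp hq => simp only [map_add, hp, hq]
      | tmul p q => simp
    rw [L1, L2, h]
  counit_comp := by
    refine TensorProduct.ext' fun a r => ?_
    simp only [LinearMap.comp_apply, LinearMap.flip_apply, TensorProduct.mk_apply, AlgHom.toLinearMap_apply,
      transCoact_tmul]
    have h := LinearMap.congr_fun (Coalgebra.lTensor_counit_comp_comul (R := k) (A := A)) a
    simp only [LinearMap.comp_apply, LinearMap.flip_apply, TensorProduct.mk_apply] at h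
    have L : ∀ z : A ⊗[k] A, (CoalgebraStruct.counit (R := k) (A := A)).lTensor (A ⊗[k] R)
        (TensorProduct.map (inl r) LinearMap.id z) =
          TensorProduct.map (inl r) LinearMap.id ((CoalgebraStruct.counit (R := k) (A := A)).lTensor A z) := by
      intro z
      induction z with
      | zero => simp
      | add p q hp hq => simp only [map_add, hp, hq]
      | tmul p q => simp
    rw [L, h]
    simp [inl]

theorem isCoactAlg_trans : @GLin.IsCoactAlg k _ A _ _ (A ⊗[k] R) _ _ (transComod k A R) :=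
  @GLin.IsCoactAlg.mk k _ A _ _ (A ⊗[k] R) _ _ (transComod k A R) (map_one (transCoact k A R))
    (fun f g => map_mul (transCoact k A R) f g)

/-- counit on the translated factor -/
def dropFirst : (A ⊗[k] R) ⊗[k] A →ₗ[k] A ⊗[k] R :=
  TensorProduct.lift (LinearMap.mk₂ k
    (fun c q => q ⊗ₜ[k] TensorProduct.lid k R ((CoalgebraStruct.counit (R := k) (A := A)).rTensor R c))
    (fun c c' q => by simp [tmul_add]) (fun s c q => by simp [tmul_smul])
    (fun c q q' => by simp [add_tmul]) (fun s c q => by simp [smul_tmul']))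

theorem dropFirst_transCoact (c : A ⊗[k] R) : dropFirst (transCoact k A R c) = c := by
  suffices h : (dropFirst (k := k) (A := A) (R := R)).comp (transCoact k A R).toLinearMap = LinearMap.id from
    LinearMap.congr_fun h c
  refine TensorProduct.ext' fun a r => ?_
  simp only [LinearMap.comp_apply, AlgHom.toLinearMap_apply, transCoact_tmul, LinearMap.id_apply]
  have h := LinearMap.congr_fun (Coalgebra.rTensor_counit_comp_comul (R := k) (A := A)) a
  simp only [LinearMap.comp_apply, TensorProduct.mk_apply] at h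
  have L : ∀ z : A ⊗[k] A, dropFirst (TensorProduct.map (inl r) LinearMap.id z) =
      TensorProduct.lid k A ((CoalgebraStruct.counit (R := k) (A := A)).rTensor A z) ⊗ₜ[k] r := by
    intro z
    induction z with
    | zero => simp
    | add p q hp hq => simp only [map_add, add_tmul, hp, hq]
    | tmul p q =>
      show q ⊗ₜ[k] (CoalgebraStruct.counit (R := k) p • r) = (CoalgebraStruct.counit (R := k) p • q) ⊗ₜ[k] r
      exact (smul_tmul _ _ _).symm
  rw [L, h]
  simp

theorem exists_of_invariant {c : A ⊗[k] R} (h : transCoact k A R c = c ⊗ₜ[k] (1 : A)) :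
    ∃ s : R, c = (1 : A) ⊗ₜ[k] s := by
  have h1 := dropFirst_transCoact c
  rw [h] at h1
  exact ⟨TensorProduct.lid k R ((CoalgebraStruct.counit (R := k) (A := A)).rTensor R c), h1.symm⟩

variable [HopfRep.Comod k A R] [GLin.IsCoactAlg k A R]

variable (k A R) in
/-- the action, as functions on `G × X` -/
def actFn : R →ₐ[k] A ⊗[k] R := (Algebra.TensorProduct.comm k R A).toAlgHom.comp (GLin.coactAlgHom k A R)

variable (k A R) in
/-- the orbit map on functions -/
def orbitFn : R ⊗[k] R →ₐ[k] A ⊗[k] R :=
  Algebra.TensorProduct.lift (actFn k A R) Algebra.TensorProduct.includeRight (fun _ _ => Commute.all _ _)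

theorem transCoact_actFn (r : R) :
    transCoact k A R (actFn k A R r) =
      Algebra.TensorProduct.map (actFn k A R) (AlgHom.id k A) (HopfRep.Comod.coact (k := k) (A := A) r) := by
  let W : R ⊗[k] (A ⊗[k] A) →ₗ[k] (A ⊗[k] R) ⊗[k] A :=
    (TensorProduct.map (TensorProduct.comm k R A).toLinearMap LinearMap.id).comp
      (TensorProduct.assoc k R A A).symm.toLinearMap
  show transCoact k A R (Algebra.TensorProduct.comm k R A (HopfRep.Comod.coact (k := k) (A := A) r)) = _
  have L3 : ∀ z : R ⊗[k] A, transCoact k A R (Algebra.TensorProduct.comm k R A z) =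
      W ((CoalgebraStruct.comul (R := k) (A := A)).lTensor R z) := by
    intro z
    induction z with
    | zero => simp
    | add p q hp hq => simp only [map_add, hp, hq]
    | tmul p q =>
      rw [Algebra.TensorProduct.comm_tmul, transCoact_tmul, LinearMap.lTensor_tmul]
      generalize CoalgebraStruct.comul (R := k) q = w
      induction w with
      | zero => simp
      | add x y hx hy => simp only [map_add, tmul_add, hx, hy]
      | tmul x y => simp [W, inl]
  have L4 : ∀ z : R ⊗[k] A, Algebra.TensorProduct.map (actFn k A R) (AlgHom.id k A) z =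
      W (TensorProduct.assoc k R A A ((HopfRep.Comod.coact (k := k) (A := A) (V := R)).rTensor A z)) := by
    intro z
    induction z with
    | zero => simp
    | add p q hp hq => simp only [map_add, hp, hq]
    | tmul p q =>
      rw [Algebra.TensorProduct.map_tmul, LinearMap.rTensor_tmul]
      show Algebra.TensorProduct.comm k R A (HopfRep.Comod.coact (k := k) (A := A) p) ⊗ₜ[k] q = _
      generalize HopfRep.Comod.coact (k := k) (A := A) p = w
      induction w with
      | zero => simp
      | add x y hx hy => simp only [map_add, add_tmul, hx, hy]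
      | tmul x y => simp [W]
  rw [L3, L4]
  have h := LinearMap.congr_fun (HopfRep.Comod.coassoc (k := k) (A := A) (V := R)) r
  simp only [LinearMap.comp_apply, LinearEquiv.coe_coe] at h
  rw [h]

theorem transCoact_includeRight (s : R) : transCoact k A R ((1 : A) ⊗ₜ[k] s) = ((1 : A) ⊗ₜ[k] s) ⊗ₜ[k] (1 : A) := by
  simp [transCoact, Algebra.TensorProduct.one_def]

section Points

variable [IsAlgClosed k] [Algebra.FiniteType k A] [IsReduced A] [Algebra.FiniteType k R]

open Hopf35.Stable

theorem orbitFn_apply (g : A →ₐ[k] k) (x : R →ₐ[k] k) (r : R) :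
    Algebra.TensorProduct.lift g x (fun _ _ => Commute.all _ _) (actFn k A R r) = GLin.actPt k g x r := by
  show Algebra.TensorProduct.lift g x (fun _ _ => Commute.all _ _)
    (Algebra.TensorProduct.comm k R A (HopfRep.Comod.coact (k := k) (A := A) r)) =
    g ((Algebra.TensorProduct.lid k A) (Algebra.TensorProduct.map x (AlgHom.id k A)
      (HopfRep.Comod.coact (k := k) (A := A) r)))
  generalize HopfRep.Comod.coact (k := k) (A := A) r = z
  induction z with
  | zero => simp
  | add p q hp hq => simp only [map_add, hp, hq]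
  | tmul p q => simp [mul_comm]

/-- fibres over a rational point have finitely many rational points -/
theorem finite_fibre (hst : ∀ x : R →ₐ[k] k, GLin.HasFiniteStab k A x) (v : R ⊗[k] R →ₐ[k] k) :
    {p : A ⊗[k] R →ₐ[k] k | p.comp (orbitFn k A R) = v}.Finite := by
  let x : R →ₐ[k] k := v.comp (Algebra.TensorProduct.includeRight (R := k) (A := R) (B := R))
  let y : R →ₐ[k] k := v.comp (Algebra.TensorProduct.includeLeft (R := k) (S := k) (A := R) (B := R))
  have hS : {g : WithConv (A →ₐ[k] k) | GLin.actPt k g.ofConv x = y}.Finite := by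
    rcases Set.eq_empty_or_nonempty {g : WithConv (A →ₐ[k] k) | GLin.actPt k g.ofConv x = y} with h0 | ⟨h₀, hh₀⟩
    · rw [h0]; exact Set.finite_empty
    refine (((hasFiniteStab_iff.1 (hst x)).image toConv).image (· * h₀)).subset
      fun h hh => ⟨h * h₀⁻¹, ?_, inv_mul_cancel_right h h₀⟩
    refine ⟨(h * h₀⁻¹).ofConv, fun F => ?_, toConv_ofConv _⟩
    rw [← actPt_apply, ← actPt_actPt, show GLin.actPt k h.ofConv x = _ from hh,
      ← show GLin.actPt k h₀.ofConv x = _ from hh₀, actPt_actPt, mul_inv_cancel, actPt_one]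
  refine ((hS.image fun g => Algebra.TensorProduct.lift g.ofConv x (fun _ _ => Commute.all _ _)).subset ?_)
  intro p hp
  have hx : p.comp Algebra.TensorProduct.includeRight = x := by
    refine AlgHom.ext fun s => ?_
    show p (Algebra.TensorProduct.includeRight s) = v (Algebra.TensorProduct.includeRight s)
    rw [← show p.comp (orbitFn k A R) = v from hp]
    simp [orbitFn]
  have hpe : p = Algebra.TensorProduct.lift (p.comp Algebra.TensorProduct.includeLeft) x (fun _ _ => Commute.all _ _) := by
    apply Algebra.TensorProduct.ext <;> ext a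
    · simp
    · rw [← hx]; simp
  refine ⟨toConv (p.comp Algebra.TensorProduct.includeLeft), AlgHom.ext fun r => ?_, hpe.symm⟩
  rw [ofConv_toConv, ← orbitFn_apply, ← hpe]
  show p (actFn k A R r) = v (r ⊗ₜ[k] (1 : R))
  rw [← show p.comp (orbitFn k A R) = v from hp]
  simp [orbitFn, ← Algebra.TensorProduct.one_def]

/-- near every rational point the orbit map is integral after localisation -/
theorem exists_integral_local (hst : ∀ x : R →ₐ[k] k, GLin.HasFiniteStab k A x) (p : A ⊗[k] R →ₐ[k] k) :
    ∃ t : A ⊗[k] R, p t ≠ 0 ∧ (orbitFn k A R).toRingHom.IsIntegralElem t ∧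
      ∀ c : A ⊗[k] R, ∃ m : ℕ, (orbitFn k A R).toRingHom.IsIntegralElem (t ^ m * c) := by
  haveI : Algebra.FiniteType k (A ⊗[k] R) := Algebra.FiniteType.trans (R := k) (S := A) inferInstance inferInstance
  letI := (orbitFn k A R).toRingHom.toAlgebra
  haveI : IsScalarTower k (R ⊗[k] R) (A ⊗[k] R) := IsScalarTower.of_algebraMap_eq fun c =>
    ((orbitFn k A R).commutes c).symm
  haveI : Algebra.FiniteType (R ⊗[k] R) (A ⊗[k] R) := Algebra.FiniteType.of_restrictScalars_finiteType k _ _
  let q : PrimeSpectrum (A ⊗[k] R) := ⟨RingHom.ker p, RingHom.ker_isPrime _⟩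
  haveI hmax : q.asIdeal.IsMaximal := RingHom.ker_isMaximal_of_surjective p fun c => ⟨algebraMap k _ c, p.commutes c⟩
  let v := p.comp (orbitFn k A R)
  have hv : q.comap (algebraMap (R ⊗[k] R) (A ⊗[k] R)) = ⟨RingHom.ker v, RingHom.ker_isPrime _⟩ := rfl
  let Z : Set (PrimeSpectrum (A ⊗[k] R)) :=
    PrimeSpectrum.comap (algebraMap (R ⊗[k] R) (A ⊗[k] R)) ⁻¹' {q.comap (algebraMap (R ⊗[k] R) (A ⊗[k] R))}
  have hZ : IsClosed Z := by
    refine IsClosed.preimage (PrimeSpectrum.continuous_comap _) ?_
    rw [hv, PrimeSpectrum.isClosed_singleton_iff_isMaximal]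
    exact RingHom.ker_isMaximal_of_surjective v fun c => ⟨algebraMap k _ c, v.commutes c⟩
  haveI : IsJacobsonRing (A ⊗[k] R) := isJacobsonRing_of_finiteType (A := k)
  haveI : JacobsonSpace Z := JacobsonSpace.of_isClosedEmbedding hZ.isClosedEmbedding_subtypeVal
  have hfin := finite_fibre hst v
  have hcl : (closedPoints Z).Finite := by
    refine Set.Finite.of_finite_image (f := Subtype.val) ?_ Subtype.val_injective.injOn
    refine (hfin.image fun p' => (⟨RingHom.ker p', RingHom.ker_isPrime _⟩ : PrimeSpectrum (A ⊗[k] R))).subset ?_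
    rintro _ ⟨⟨z, hz⟩, hzc, rfl⟩
    haveI hzm : z.asIdeal.IsMaximal := by
      rw [← PrimeSpectrum.isClosed_singleton_iff_isMaximal, ← Set.image_singleton (f := Subtype.val) (a := (⟨z, hz⟩ : Z))]
      exact hZ.isClosedEmbedding_subtypeVal.isClosedMap _ hzc
    obtain ⟨p', hp'⟩ : ∃ p' : A ⊗[k] R →ₐ[k] k, RingHom.ker p' = z.asIdeal := by
      haveI : Algebra.FiniteType k ((A ⊗[k] R) ⧸ z.asIdeal) :=
        Algebra.FiniteType.of_surjective (Ideal.Quotient.mkₐ k _) Ideal.Quotient.mk_surjective
      haveI : Module.Finite k ((A ⊗[k] R) ⧸ z.asIdeal) := by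
        letI := Ideal.Quotient.field z.asIdeal
        exact finite_of_finite_type_of_isJacobsonRing _ _
      let e := (AlgEquiv.ofBijective (Algebra.ofId k ((A ⊗[k] R) ⧸ z.asIdeal))
        IsAlgClosed.algebraMap_bijective_of_isIntegral).symm
      exact ⟨e.toAlgHom.comp (Ideal.Quotient.mkₐ k z.asIdeal), by ext c; simp [Ideal.Quotient.eq_zero_iff_mem]⟩
    refine ⟨p', AlgHom.ext fun w => ?_, PrimeSpectrum.ext hp'⟩
    have h1 : w - algebraMap k _ (v w) ∈ RingHom.ker v := by
      rw [RingHom.mem_ker, map_sub, AlgHom.commutes]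
      exact sub_self _
    have h2 : Ideal.comap (algebraMap (R ⊗[k] R) (A ⊗[k] R)) z.asIdeal = RingHom.ker v :=
      congrArg PrimeSpectrum.asIdeal hz
    rw [← h2, Ideal.mem_comap, ← hp', RingHom.mem_ker, map_sub, map_sub, sub_eq_zero] at h1
    refine h1.trans ?_
    rw [← IsScalarTower.algebraMap_apply, AlgHom.commutes]
    rfl
  haveI : DiscreteTopology Z := JacobsonSpace.discreteTopology hcl
  haveI : Algebra.QuasiFiniteAt (R ⊗[k] R) q.asIdeal :=
    Algebra.QuasiFiniteAt.of_isOpen_singleton_fiber q (isOpen_discrete _)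
  obtain ⟨t, htp, ht, hloc⟩ :=
    Algebra.zariskisMainProperty_iff.mp (Algebra.ZariskisMainProperty.of_finiteType (R := R ⊗[k] R) q.asIdeal)
  exact ⟨t, htp, ht, hloc⟩

theorem exists_pt_of_maximal {S : Type u} [CommRing S] [Algebra k S] [Algebra.FiniteType k S] (M : Ideal S)
    [M.IsMaximal] : ∃ p : S →ₐ[k] k, RingHom.ker p = M := by
  haveI : Algebra.FiniteType k (S ⧸ M) :=
    Algebra.FiniteType.of_surjective (Ideal.Quotient.mkₐ k _) Ideal.Quotient.mk_surjective
  haveI : Module.Finite k (S ⧸ M) := by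
    letI := Ideal.Quotient.field M
    exact finite_of_finite_type_of_isJacobsonRing _ _
  let e := (AlgEquiv.ofBijective (Algebra.ofId k (S ⧸ M)) IsAlgClosed.algebraMap_bijective_of_isIntegral).symm
  exact ⟨e.toAlgHom.comp (Ideal.Quotient.mkₐ k M), by ext c; simp [Ideal.Quotient.eq_zero_iff_mem]⟩

/-- **Finiteness of the orbit map**: linearly reductive group, affine scheme, finite stabilisers. -/
theorem finite_orbitFn (hLR : HopfRep.IsLinearlyReductive k A)
    (hst : ∀ x : R →ₐ[k] k, GLin.HasFiniteStab k A x) : (orbitFn k A R).toRingHom.Finite := by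
  classical
  letI iC := transComod k A R
  haveI hC : GLin.IsCoactAlg k A (A ⊗[k] R) := isCoactAlg_trans
  haveI : Algebra.FiniteType k (A ⊗[k] R) := Algebra.FiniteType.trans (R := k) (S := A) inferInstance inferInstance
  letI := (orbitFn k A R).toRingHom.toAlgebra
  haveI : IsScalarTower k (R ⊗[k] R) (A ⊗[k] R) := IsScalarTower.of_algebraMap_eq fun c =>
    ((orbitFn k A R).commutes c).symm
  haveI : Algebra.FiniteType (R ⊗[k] R) (A ⊗[k] R) := Algebra.FiniteType.of_restrictScalars_finiteType k _ _
  -- translations are compatible with the orbit map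
  have hΦ : ∀ (g : A →ₐ[k] k) (r : R), FinGrp34.OrbitMap.actHom A (A ⊗[k] R) g (actFn k A R r) =
      actFn k A R (FinGrp34.OrbitMap.actHom A R g r) := fun g r =>
    FinGrp34.PolyComod.map_actHom (φ := actFn k A R) (fun r => transCoact_actFn r) g r
  have hright : ∀ (g : A →ₐ[k] k) (r : R),
      FinGrp34.OrbitMap.actHom A (A ⊗[k] R) g ((1 : A) ⊗ₜ[k] r) = (1 : A) ⊗ₜ[k] r := by
    intro g r
    show (Algebra.TensorProduct.rid k k (A ⊗[k] R)) (Algebra.TensorProduct.map (AlgHom.id k (A ⊗[k] R)) g
      (transCoact k A R ((1 : A) ⊗ₜ[k] r))) = _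
    rw [transCoact_includeRight]
    simp
  -- integral elements form a subcomodule
  let Sint : Submodule k (A ⊗[k] R) := (integralClosure (R ⊗[k] R) (A ⊗[k] R)).toSubmodule.restrictScalars k
  have hSint : HopfRep.IsSubcomod (k := k) (A := A) Sint := by
    refine FinGrp34.PolyComod.isSubcomod_of_stable fun g c hc => ?_
    obtain ⟨P, hP, hP0⟩ := (hc : IsIntegral (R ⊗[k] R) c)
    let e := FinGrp34.OrbitMap.actHom A (A ⊗[k] R) g
    let σ := Algebra.TensorProduct.map (FinGrp34.OrbitMap.actHom A R g) (AlgHom.id k R)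
    have hσ : (orbitFn k A R).comp σ = e.comp (orbitFn k A R) := by
      apply Algebra.TensorProduct.ext <;> ext r
      · show orbitFn k A R (σ (r ⊗ₜ[k] (1 : R))) = e (orbitFn k A R (r ⊗ₜ[k] (1 : R)))
        simp [σ, e, orbitFn, hΦ, ← Algebra.TensorProduct.one_def]
      · show orbitFn k A R (σ ((1 : R) ⊗ₜ[k] r)) = e (orbitFn k A R ((1 : R) ⊗ₜ[k] r))
        simp [σ, e, orbitFn, hright]
    refine ⟨P.map σ.toRingHom, hP.map _, ?_⟩
    show Polynomial.eval₂ (orbitFn k A R).toRingHom (e c) (P.map σ.toRingHom) = 0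
    rw [Polynomial.eval₂_map, show (orbitFn k A R).toRingHom.comp σ.toRingHom = e.toRingHom.comp (orbitFn k A R).toRingHom
      from congrArg AlgHom.toRingHom hσ]
    show Polynomial.eval₂ (e.toRingHom.comp (orbitFn k A R).toRingHom) (e.toRingHom c) P = 0
    rw [← Polynomial.hom_eval₂]
    exact (congrArg e.toRingHom hP0).trans (map_zero _)
  -- local integrality
  choose t htp ht hloc using exists_integral_local hst
  have hspan : Ideal.span (Set.range t) = ⊤ := by
    by_contra hne
    obtain ⟨M, hM, hle⟩ := Ideal.exists_le_maximal _ hne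
    haveI := hM
    obtain ⟨p, hp⟩ := exists_pt_of_maximal (k := k) M
    exact htp p (by rw [← RingHom.mem_ker, hp]; exact hle (Ideal.subset_span ⟨p, rfl⟩))
  have h1t : (1 : A ⊗[k] R) ∈ Ideal.span (Set.range t) := by rw [hspan]; trivial
  obtain ⟨l, hl⟩ := Finsupp.mem_span_range_iff_exists_finsupp.1
    (show (1 : A ⊗[k] R) ∈ Submodule.span (A ⊗[k] R) (Set.range t) from h1t)
  obtain ⟨gen, hgen⟩ := Algebra.FiniteType.out (R := k) (A := R)
  let T : Finset (A ⊗[k] R) :=
    gen.image (actFn k A R) ∪ gen.image (fun r => (1 : A) ⊗ₜ[k] r) ∪ l.support.image t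
  obtain ⟨W, hWfin, hWsub, hTW, hWmin⟩ :=
    Hopf34.exists_finite_isSubcomod (k := k) (A := A) (V := A ⊗[k] R) (T : Set (A ⊗[k] R)) T.finite_toSet
  have hWint : W ≤ Sint := hWmin Sint hSint (by
    intro c hc
    simp only [T, Finset.coe_union, Finset.coe_image, Set.mem_union, Set.mem_image, Finset.mem_coe] at hc
    show IsIntegral (R ⊗[k] R) c
    rcases hc with (⟨r, -, rfl⟩ | ⟨r, -, rfl⟩) | ⟨q, -, rfl⟩
    · rw [show actFn k A R r = algebraMap (R ⊗[k] R) (A ⊗[k] R) (r ⊗ₜ[k] (1 : R)) by
        rw [RingHom.algebraMap_toAlgebra]; simp [orbitFn, ← Algebra.TensorProduct.one_def]]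
      exact isIntegral_algebraMap
    · rw [show (1 : A) ⊗ₜ[k] r = algebraMap (R ⊗[k] R) (A ⊗[k] R) ((1 : R) ⊗ₜ[k] r) by
        rw [RingHom.algebraMap_toAlgebra]; simp [orbitFn]]
      exact isIntegral_algebraMap
    · exact ht q)
  let J := ULift.{u} (Fin (Module.finrank k W))
  let b' : Module.Basis J k W := (Module.finBasis k W).reindex Equiv.ulift.symm
  let b : J → A ⊗[k] R := fun j => (b' j : A ⊗[k] R)
  have hex : ∀ j, ∃ cc : J → A, transCoact k A R (b j) = ∑ i, b i ⊗ₜ[k] cc i := by
    intro j
    obtain ⟨y, hy⟩ := hWsub _ (b' j).2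
    obtain ⟨cc, rfl⟩ : ∃ cc : J → A, y = ∑ i, (b' i) ⊗ₜ[k] cc i := by
      clear hy
      induction y using TensorProduct.induction_on with
      | zero => exact ⟨0, by simp⟩
      | tmul w q =>
        refine ⟨fun i => b'.repr w i • q, ?_⟩
        conv_lhs => rw [← b'.sum_repr w, TensorProduct.sum_tmul]
        simp [TensorProduct.smul_tmul]
      | add p q hp hq =>
        obtain ⟨cc, rfl⟩ := hp
        obtain ⟨cc', rfl⟩ := hq
        exact ⟨cc + cc', by simp [TensorProduct.tmul_add, Finset.sum_add_distrib]⟩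
    refine ⟨cc, ?_⟩
    show HopfRep.Comod.coact (k := k) (A := A) (b j) = _
    rw [show HopfRep.Comod.coact (k := k) (A := A) (b j) = _ from hy.symm, map_sum]
    rfl
  choose cM hcM using hex
  choose π hπ using fun j : J => LinearMap.exists_extend (b'.coord j)
  have hrep : Comod33.Mat.IsRep (k := k) (fun i j => cM j i) :=
    HM.isRep_of_indep (C := A) b π (fun j i => by
      rw [show π j (b i) = b'.coord j (b' i) from LinearMap.congr_fun (hπ j) (b' i),
        Module.Basis.coord_apply, b'.repr_self, Finsupp.single_apply]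
      simp [eq_comm]) _ hcM
  letI iP := FinGrp34.PolyComod.comod (k := k) hrep
  haveI := FinGrp34.PolyComod.isCoactAlg (k := k) hrep
  let ρ : MvPolynomial J k →ₐ[k] A ⊗[k] R := MvPolynomial.aeval b
  have hρ : ∀ F, transCoact k A R (ρ F) = Algebra.TensorProduct.map ρ (AlgHom.id k A)
      (FinGrp34.PolyComod.polyCoact (k := k) (fun i j => cM j i) F) := fun F =>
    @FinGrp34.PolyComod.coact_aeval k _ A _ _ J _ _ (fun i j => cM j i) (A ⊗[k] R) _ _ iC hC b hcM F
  have hρact : ∀ (g : A →ₐ[k] k) (F : MvPolynomial J k), FinGrp34.OrbitMap.actHom A (A ⊗[k] R) g (ρ F) =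
      ρ (FinGrp34.OrbitMap.actHom A (MvPolynomial J k) g F) := fun g F =>
    FinGrp34.PolyComod.map_actHom (φ := ρ) hρ g F
  let B := ρ.range
  have hWB : ∀ c ∈ W, c ∈ B := by
    intro c hc
    have h := congrArg (fun w : W => (w : A ⊗[k] R)) (b'.sum_repr ⟨c, hc⟩)
    simp only [Submodule.coe_sum, Submodule.coe_smul] at h
    rw [← h]
    exact Subalgebra.sum_mem _ fun j _ => Subalgebra.smul_mem _ (show b j ∈ B from ⟨MvPolynomial.X j, MvPolynomial.aeval_X _ _⟩) _
  have hgenB : ∀ (f : R →ₐ[k] A ⊗[k] R), (∀ r ∈ gen, f r ∈ B) → ∀ r, f r ∈ B := by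
    intro f hf r
    have h : (⊤ : Subalgebra k R) ≤ B.comap f := by
      rw [← hgen, Algebra.adjoin_le_iff]
      exact hf
    exact h Algebra.mem_top
  have hΦB : ∀ r, actFn k A R r ∈ B := hgenB _ fun r hr => hWB _ (hTW (by
    simp only [T, Finset.coe_union, Finset.coe_image]
    exact Or.inl (Or.inl ⟨r, hr, rfl⟩)))
  have hrB : ∀ r, Algebra.TensorProduct.includeRight r ∈ B := hgenB _ fun r hr => hWB _ (hTW (by
    simp only [T, Finset.coe_union, Finset.coe_image]
    exact Or.inl (Or.inr ⟨r, hr, rfl⟩)))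
  have htB : ∀ q ∈ l.support, t q ∈ B := fun q hq => hWB _ (hTW (by
    simp only [T, Finset.coe_union, Finset.coe_image]
    exact Or.inr ⟨q, hq, rfl⟩))
  -- every rational point of `B` extends
  have hext : ∀ w : B →ₐ[k] k, ∃ p : A ⊗[k] R →ₐ[k] k, ∀ z : B, w z = p z := by
    intro w
    let wP : MvPolynomial J k →ₐ[k] k := w.comp ρ.rangeRestrict
    let x : R →ₐ[k] k := w.comp ((Algebra.TensorProduct.includeRight : R →ₐ[k] A ⊗[k] R).codRestrict B hrB)
    let p₀ : A ⊗[k] R →ₐ[k] k :=
      Algebra.TensorProduct.lift (Bialgebra.counitAlgHom k A) x (fun _ _ => Commute.all _ _)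
    have hinv : ∀ F ∈ GLin.invariants k A (MvPolynomial J k), (p₀.comp ρ) F = wP F := by
      intro F hF
      obtain ⟨s, hs⟩ := exists_of_invariant (c := ρ F) (by
        rw [hρ F, show FinGrp34.PolyComod.polyCoact (k := k) (fun i j => cM j i) F = F ⊗ₜ[k] (1 : A) from
          (GLin.mem_invariants_iff k A (MvPolynomial J k) F).1 hF]
        simp)
      show p₀ (ρ F) = w (ρ.rangeRestrict F)
      rw [show ρ.rangeRestrict F = (Algebra.TensorProduct.includeRight : R →ₐ[k] A ⊗[k] R).codRestrict B hrB s from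
        Subtype.ext hs, hs]
      simp [p₀, x]
    obtain ⟨z, hz₀, hzw⟩ := (LinRed34.forall_invariants_eq_iff hLR (p₀.comp ρ) wP).1 hinv
    have hzker : RingHom.ker ρ.rangeRestrict ≤ RingHom.ker z := by
      intro F hF
      refine hz₀ F fun g => ?_
      have h0 : ρ F = 0 := congrArg Subtype.val hF
      show p₀ (ρ (HopfRep.Comod.act k A (MvPolynomial J k) g F)) = 0
      rw [← FinGrp34.OrbitMap.actHom_apply, ← hρact, h0, map_zero, map_zero]
    let zB : B →ₐ[k] k := AlgHom.liftOfSurjective ρ.rangeRestrict ρ.rangeRestrict_surjective z hzker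
    have hzB : ∀ F, zB (ρ.rangeRestrict F) = z F := fun F =>
      DFunLike.congr_fun (AlgHom.liftOfSurjective_comp ρ.rangeRestrict ρ.rangeRestrict_surjective z hzker) F
    let y : R →ₐ[k] k := zB.comp ((actFn k A R).codRestrict B hΦB)
    have hfin : GLin.HasFiniteStab k A z := by
      rw [Hopf35.Stable.hasFiniteStab_iff]
      refine (Hopf35.Stable.hasFiniteStab_iff.1 (hst y)).subset fun g hg r => ?_
      obtain ⟨F, hF⟩ := hΦB r
      have hF : ρ F = actFn k A R r := hF
      have h1 : ρ (HopfRep.Comod.act k A (MvPolynomial J k) g F) = actFn k A R (HopfRep.Comod.act k A R g r) := by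
        rw [← FinGrp34.OrbitMap.actHom_apply, ← hρact, hF, hΦ, FinGrp34.OrbitMap.actHom_apply]
      show zB ((actFn k A R).codRestrict B hΦB _) = zB ((actFn k A R).codRestrict B hΦB r)
      rw [show (actFn k A R).codRestrict B hΦB (HopfRep.Comod.act k A R g r) =
          ρ.rangeRestrict (HopfRep.Comod.act k A (MvPolynomial J k) g F) from Subtype.ext h1.symm,
        show (actFn k A R).codRestrict B hΦB r = ρ.rangeRestrict F from Subtype.ext hF.symm, hzB, hzB]
      exact hg F
    have hclo : ∀ u : MvPolynomial J k →ₐ[k] k,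
        (∀ f, (∀ g, u (HopfRep.Comod.act k A (MvPolynomial J k) g f) = 0) → z f = 0) →
          GLin.InOrbitClosure k A u z := by
      intro u hu f hf
      refine hu f fun g => ?_
      rw [← Hopf35.Stable.actPt_apply]
      show g (GLin.orbitHom k A u f) = 0
      rw [show GLin.orbitHom k A u f = 0 from hf, map_zero]
    obtain ⟨g₀, hg₀⟩ := inOrbit_of_finite_stab (hclo _ hz₀) hfin
    obtain ⟨g₁, hg₁⟩ := inOrbit_of_finite_stab (hclo _ hzw) hfin
    let g := (toConv g₀ * (toConv g₁)⁻¹).ofConv
    have hw : GLin.actPt k g (p₀.comp ρ) = wP := by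
      show GLin.actPt k (toConv g₀ * (toConv g₁)⁻¹).ofConv (p₀.comp ρ) = wP
      rw [← actPt_actPt, ofConv_toConv, hg₀, ← hg₁]
      conv_lhs => rw [← ofConv_toConv g₁]
      rw [actPt_actPt, toConv_ofConv, mul_inv_cancel, actPt_one]
    refine ⟨p₀.comp (FinGrp34.OrbitMap.actHom A (A ⊗[k] R) g), fun z' => ?_⟩
    obtain ⟨F, rfl⟩ := ρ.rangeRestrict_surjective z'
    show wP F = p₀ (FinGrp34.OrbitMap.actHom A (A ⊗[k] R) g (ρ F))
    rw [hρact, ← hw, actPt_apply, FinGrp34.OrbitMap.actHom_apply]
    rfl
  -- so the `t` generate the unit ideal of `B`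
  have hBint : ∀ z : B, IsIntegral (R ⊗[k] R) (z : A ⊗[k] R) := by
    have h : B ≤ (integralClosure (R ⊗[k] R) (A ⊗[k] R)).restrictScalars k := by
      show ρ.range ≤ _
      rw [← Algebra.map_top, ← MvPolynomial.adjoin_range_X, AlgHom.map_adjoin, Algebra.adjoin_le_iff]
      rintro _ ⟨_, ⟨j, rfl⟩, rfl⟩
      show IsIntegral (R ⊗[k] R) (ρ (MvPolynomial.X j))
      rw [show ρ (MvPolynomial.X j) = b j from MvPolynomial.aeval_X _ _]
      exact hWint (b' j).2
    exact fun z => h z.2
  have hBft : Algebra.FiniteType k B :=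
    Algebra.FiniteType.of_surjective ρ.rangeRestrict ρ.rangeRestrict_surjective
  let tB : l.support → B := fun q => ⟨t q.1, htB q.1 q.2⟩
  have hspanB : Ideal.span (Set.range tB) = ⊤ := by
    by_contra hne
    obtain ⟨M, hM, hle⟩ := Ideal.exists_le_maximal _ hne
    haveI := hM
    obtain ⟨w, hw⟩ := exists_pt_of_maximal (k := k) M
    obtain ⟨p, hp⟩ := hext w
    have hzero : ∀ q ∈ l.support, p (t q) = 0 := fun q hq => by
      rw [← show w (tB ⟨q, hq⟩) = p (t q) from hp _, ← RingHom.mem_ker, hw]
      exact hle (Ideal.subset_span ⟨⟨q, hq⟩, rfl⟩)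
    have h1 := congrArg p hl
    rw [map_one, Finsupp.sum, map_sum, Finset.sum_eq_zero fun q hq => by
      rw [smul_eq_mul, map_mul, hzero q hq, mul_zero]] at h1
    exact zero_ne_one h1
  have hint : ∀ c : A ⊗[k] R, IsIntegral (R ⊗[k] R) c := by
    intro c
    choose m hm using fun q => hloc q c
    let N := ∑ q ∈ l.support, m q
    let tm : l.support → B := fun q => tB q ^ N
    have hpow : Ideal.span (Set.range tm) = ⊤ := by
      have h := Ideal.span_pow_eq_top _ hspanB N
      rwa [← Set.range_comp] at h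
    have hmN : ∀ q : l.support, IsIntegral (R ⊗[k] R) (t q.1 ^ N * c) := fun q => by
      have hle : m q.1 ≤ N := Finset.single_le_sum (fun i _ => Nat.zero_le (m i)) q.2
      rw [← Nat.sub_add_cancel hle, pow_add, mul_assoc]
      exact ((show IsIntegral (R ⊗[k] R) (t q.1) from ht q.1).pow _).mul (hm q.1)
    obtain ⟨e, he⟩ := Submodule.mem_span_range_iff_exists_fun (R := B) |>.1
      (show (1 : B) ∈ Submodule.span B (Set.range tm) by
        rw [show Submodule.span B (Set.range tm) = (⊤ : Ideal B) from hpow]; trivial)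
    have h1 := congrArg (Subtype.val : B → A ⊗[k] R) he
    rw [AddSubmonoidClass.coe_finsetSum] at h1
    rw [show c = (1 : A ⊗[k] R) * c from (one_mul c).symm, show (1 : A ⊗[k] R) = ((1 : B) : A ⊗[k] R) from rfl,
      ← h1, Finset.sum_mul]
    refine IsIntegral.sum _ fun q _ => ?_
    rw [smul_eq_mul, MulMemClass.coe_mul, mul_assoc]
    exact (hBint (e q)).mul (hmN q)
  haveI : Algebra.IsIntegral (R ⊗[k] R) (A ⊗[k] R) := ⟨hint⟩
  exact RingHom.finite_algebraMap.mpr Algebra.IsIntegral.finite

end Points

end Groth.Agent.GIT36.FinAction
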