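import Groth.Agent.GIT36.FinAction.Algebra
import Groth.Agent.Comod33.CartierReduced
import Groth.Agent.S18813
import Mathlib.RingTheory.Finiteness.Descent
import Mathlib.RingTheory.HopfAlgebra.TensorProduct

/-!
The orbit map over a field of characteristic zero that need not be algebraically closed.
-/

set_option autoImplicit false
set_option backward.isDefEq.respectTransparency.types false
set_option linter.style.haveILetI false
set_option linter.unusedSectionVars false

universe u

open TensorProduct WithConv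

noncomputable section

namespace Groth.Agent.GIT36.FinAction

variable {k : Type u} [Field k] {A : Type u} [CommRing A] [HopfAlgebra k A] {R : Type u} [CommRing R] [Algebra k R]
  [HopfRep.Comod k A R] [GLin.IsCoactAlg k A R]

/-- regrouping a base change of a tensor product -/
def distrib (K : Type u) [CommRing K] [Algebra k K] (P Q : Type u) [CommRing P] [Algebra k P] [CommRing Q]
    [Algebra k Q] : K ⊗[k] (P ⊗[k] Q) →ₐ[k] (K ⊗[k] P) ⊗[K] (K ⊗[k] Q) :=
  Algebra.TensorProduct.lift
    ((Algebra.TensorProduct.includeLeft : K ⊗[k] P →ₐ[K] (K ⊗[k] P) ⊗[K] (K ⊗[k] Q)).restrictScalars k |>.comp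
      Algebra.TensorProduct.includeLeft)
    (Algebra.TensorProduct.lift
      ((Algebra.TensorProduct.includeLeft : K ⊗[k] P →ₐ[K] (K ⊗[k] P) ⊗[K] (K ⊗[k] Q)).restrictScalars k |>.comp
        Algebra.TensorProduct.includeRight)
      ((Algebra.TensorProduct.includeRight : K ⊗[k] Q →ₐ[K] (K ⊗[k] P) ⊗[K] (K ⊗[k] Q)).restrictScalars k |>.comp
        Algebra.TensorProduct.includeRight)
      fun _ _ => Commute.all _ _)
    fun _ _ => Commute.all _ _

theorem distrib_tmul {K : Type u} [CommRing K] [Algebra k K] {P Q : Type u} [CommRing P] [Algebra k P] [CommRing Q]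
    [Algebra k Q] (c : K) (p : P) (q : Q) :
    distrib K P Q (c ⊗ₜ[k] (p ⊗ₜ[k] q)) = (c ⊗ₜ[k] p) ⊗ₜ[K] ((1 : K) ⊗ₜ[k] q) := by
  simp [distrib]

theorem distrib_bijective (K : Type u) [Field K] [Algebra k K] (P Q : Type u) [CommRing P] [Algebra k P]
    [CommRing Q] [Algebra k Q] : Function.Bijective (distrib (k := k) K P Q) := by
  have h : ∀ z, distrib K P Q z = AlgebraTensorModule.distribBaseChange k K P Q z := by
    intro z
    induction z with
    | zero => simp
    | add x y hx hy => simp [hx, hy]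
    | tmul c w =>
      induction w with
      | zero => simp
      | add x y hx hy => simp [tmul_add, hx, hy]
      | tmul p q =>
        rw [distrib_tmul]
        simp [AlgebraTensorModule.distribBaseChange]
  rw [show (distrib (k := k) K P Q : _ → _) = AlgebraTensorModule.distribBaseChange k K P Q from funext h]
  exact (AlgebraTensorModule.distribBaseChange k K P Q).bijective

variable [CharZero k] [Algebra.FiniteType k A] [Algebra.FiniteType k R]

/-- the orbit map is finite when geometric stabilisers are finite -/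
theorem finite_orbitFn_of_geom (hLR : HopfRep.IsLinearlyReductive k A)
    (hst : ∀ x : R →ₐ[k] AlgebraicClosure k, {g : A →ₐ[k] AlgebraicClosure k |
      (Algebra.TensorProduct.lift x g fun _ _ => Commute.all _ _).comp (GLin.coactAlgHom k A R) = x}.Finite) :
    (orbitFn k A R).toRingHom.Finite := by
  classical
  let K := AlgebraicClosure k
  haveI : CharZero K := charZero_of_injective_algebraMap (algebraMap k K).injective
  haveI : IsReduced (K ⊗[k] A) := Comod33.Aug.isReduced_of_charZero (k := K)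
  letI iC : HopfRep.Comod K (K ⊗[k] A) (K ⊗[k] R) := CoactBr.Comod.baseChange k K A R
  haveI : GLin.IsCoactAlg K (K ⊗[k] A) (K ⊗[k] R) := CoactBr.isCoactAlg_baseChange k K A R
  have hLRK := (S18813.result k K A).1 hLR
  have hcoact : ∀ (x : K ⊗[k] R →ₐ[K] K) (g : K ⊗[k] A →ₐ[K] K) (r : R),
      x (HopfRep.Comod.act K (K ⊗[k] A) (K ⊗[k] R) g (1 ⊗ₜ[k] r)) =
        Algebra.TensorProduct.lift ((x.restrictScalars k).comp Algebra.TensorProduct.includeRight)
          ((g.restrictScalars k).comp Algebra.TensorProduct.includeRight) (fun _ _ => Commute.all _ _)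
          (GLin.coactAlgHom k A R r) := by
    intro x g r
    rw [← Hopf35.Stable.actPt_apply]
    show g ((Algebra.TensorProduct.lid K (K ⊗[k] A)) (Algebra.TensorProduct.map x (AlgHom.id K (K ⊗[k] A))
      ((CoactBr.Comod.baseChange k K A R).coact ((1 : K) ⊗ₜ[k] r)))) = _
    obtain ⟨t, ht⟩ := TensorProduct.exists_finset (HopfRep.Comod.coact (k := k) (A := A) r)
    rw [CoactBr.baseChange_coact_tmul_of_sum k K A R t (1 : K) r (fun i => i.1) (fun i => i.2) ht,
      GLin.coactAlgHom_apply, ht, map_sum, map_sum, map_sum, map_sum]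
    refine Finset.sum_congr rfl fun i _ => ?_
    simp [mul_comm]
  have hstK : ∀ x : K ⊗[k] R →ₐ[K] K, GLin.HasFiniteStab K (K ⊗[k] A) x := by
    intro x
    rw [Hopf35.Stable.hasFiniteStab_iff]
    refine ((hst ((x.restrictScalars k).comp Algebra.TensorProduct.includeRight)).preimage
      (f := fun g : K ⊗[k] A →ₐ[K] K => (g.restrictScalars k).comp Algebra.TensorProduct.includeRight)
      fun g _ g' _ e => ?_).subset ?_
    · exact Algebra.TensorProduct.ext (by ext) e
    · intro g hg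
      refine AlgHom.ext fun r => ?_
      rw [AlgHom.comp_apply, ← hcoact]
      exact hg _
  have hK := finite_orbitFn (k := K) (A := K ⊗[k] A) (R := K ⊗[k] R) hLRK hstK
  let f₀ := orbitFn k A R
  let fK : K ⊗[k] (R ⊗[k] R) →ₐ[k] K ⊗[k] (A ⊗[k] R) := Algebra.TensorProduct.map (AlgHom.id k K) f₀
  have hactK : ∀ (c : K) (r : R), actFn K (K ⊗[k] A) (K ⊗[k] R) (c ⊗ₜ[k] r) =
      distrib K A R (c ⊗ₜ[k] actFn k A R r) := by
    intro c r
    show Algebra.TensorProduct.comm K (K ⊗[k] R) (K ⊗[k] A)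
      ((CoactBr.Comod.baseChange k K A R).coact (c ⊗ₜ[k] r)) = _
    obtain ⟨t, ht⟩ := TensorProduct.exists_finset (HopfRep.Comod.coact (k := k) (A := A) r)
    have h2 : actFn k A R r = ∑ i ∈ t, i.2 ⊗ₜ[k] i.1 := by
      show Algebra.TensorProduct.comm k R A (HopfRep.Comod.coact (k := k) (A := A) r) = _
      rw [ht, map_sum]
      exact Finset.sum_congr rfl fun i _ => rfl
    rw [CoactBr.baseChange_coact_tmul_of_sum k K A R t c r (fun i => i.1) (fun i => i.2) ht, h2, map_sum,
      tmul_sum, map_sum]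
    refine Finset.sum_congr rfl fun i _ => ?_
    rw [distrib_tmul]
    rfl
  have hsq : (orbitFn K (K ⊗[k] A) (K ⊗[k] R)).toRingHom.comp (distrib (k := k) K R R).toRingHom =
      (distrib (k := k) K A R).toRingHom.comp fK.toRingHom := by
    refine RingHom.ext fun z => ?_
    show orbitFn K (K ⊗[k] A) (K ⊗[k] R) (distrib K R R z) = distrib K A R (fK z)
    induction z with
    | zero => simp
    | add x y hx hy => simp only [map_add, hx, hy]
    | tmul c w =>
      induction w with
      | zero => simp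
      | add x y hx hy => simp only [tmul_add, map_add, hx, hy]
      | tmul r s =>
        have h1 : c ⊗ₜ[k] f₀ (r ⊗ₜ[k] s) = (c ⊗ₜ[k] actFn k A R r) * ((1 : K) ⊗ₜ[k] ((1 : A) ⊗ₜ[k] s)) := by
          simp [f₀, orbitFn, Algebra.TensorProduct.tmul_mul_tmul]
        rw [distrib_tmul, Algebra.TensorProduct.map_tmul, AlgHom.id_apply, h1, map_mul, ← hactK, distrib_tmul]
        simp [orbitFn, ← Algebra.TensorProduct.one_def]
  have hfK : fK.toRingHom.Finite := by
    let e := RingEquiv.ofBijective (distrib (k := k) K A R).toRingHom (distrib_bijective K A R)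
    have h1 : ((distrib (k := k) K A R).toRingHom.comp fK.toRingHom).Finite := by
      rw [← hsq]
      exact RingHom.Finite.comp hK (RingHom.Finite.of_surjective _ (distrib_bijective K R R).2)
    have h2 := RingHom.Finite.comp (RingHom.Finite.of_surjective e.symm.toRingHom e.symm.surjective) h1
    convert h2 using 1
    exact RingHom.ext fun z => (e.symm_apply_apply (fK z)).symm
  -- descend along the extension of scalars
  letI := f₀.toRingHom.toAlgebra
  letI := fK.toRingHom.toAlgebra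
  letI : Algebra (R ⊗[k] R) (K ⊗[k] (R ⊗[k] R)) := Algebra.TensorProduct.rightAlgebra
  letI : Algebra (A ⊗[k] R) (K ⊗[k] (A ⊗[k] R)) := Algebra.TensorProduct.rightAlgebra
  letI : Algebra (R ⊗[k] R) (K ⊗[k] (A ⊗[k] R)) :=
    ((algebraMap (A ⊗[k] R) (K ⊗[k] (A ⊗[k] R))).comp (algebraMap (R ⊗[k] R) (A ⊗[k] R))).toAlgebra
  haveI : IsScalarTower (R ⊗[k] R) (A ⊗[k] R) (K ⊗[k] (A ⊗[k] R)) := IsScalarTower.of_algebraMap_eq fun _ => rfl
  haveI : IsScalarTower (R ⊗[k] R) (K ⊗[k] (R ⊗[k] R)) (K ⊗[k] (A ⊗[k] R)) :=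
    IsScalarTower.of_algebraMap_eq fun c => by
      show (1 : K) ⊗ₜ[k] f₀ c = fK ((1 : K) ⊗ₜ[k] c)
      simp [fK]
  haveI : IsScalarTower k (R ⊗[k] R) (A ⊗[k] R) := IsScalarTower.of_algebraMap_eq fun c => (f₀.commutes c).symm
  haveI : IsScalarTower k (R ⊗[k] R) (K ⊗[k] (A ⊗[k] R)) := IsScalarTower.of_algebraMap_eq fun c => by
    show _ = (1 : K) ⊗ₜ[k] f₀ (algebraMap k (R ⊗[k] R) c)
    rw [f₀.commutes, Algebra.algebraMap_eq_smul_one (A := A ⊗[k] R), TensorProduct.tmul_smul,
      ← Algebra.TensorProduct.one_def, ← Algebra.algebraMap_eq_smul_one]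
  haveI : IsScalarTower K (K ⊗[k] (R ⊗[k] R)) (K ⊗[k] (A ⊗[k] R)) :=
    IsScalarTower.of_algebraMap_eq (R := K) (S := K ⊗[k] (R ⊗[k] R)) (A := K ⊗[k] (A ⊗[k] R)) fun c => by
    show c ⊗ₜ[k] (1 : A ⊗[k] R) = fK (c ⊗ₜ[k] 1)
    simp [fK]
  haveI h0 : Algebra.IsPushout k (R ⊗[k] R) K (K ⊗[k] (R ⊗[k] R)) := Algebra.IsPushout.symm inferInstance
  haveI h1 : Algebra.IsPushout k (A ⊗[k] R) K (K ⊗[k] (A ⊗[k] R)) := Algebra.IsPushout.symm inferInstance
  haveI h3 : Algebra.IsPushout (R ⊗[k] R) (A ⊗[k] R) (K ⊗[k] (R ⊗[k] R)) (K ⊗[k] (A ⊗[k] R)) :=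
    (Algebra.IsPushout.comp_iff (R := k) (S := R ⊗[k] R) (R' := K) (S' := K ⊗[k] (R ⊗[k] R))).1 h1
  refine RingHom.Finite.codescendsAlong_faithfullyFlat (R := R ⊗[k] R) (S := A ⊗[k] R)
    (R' := K ⊗[k] (R ⊗[k] R)) (S' := K ⊗[k] (A ⊗[k] R)) ?_ hfK
  show RingHom.FaithfullyFlat (algebraMap (R ⊗[k] R) (K ⊗[k] (R ⊗[k] R)))
  rw [RingHom.faithfullyFlat_algebraMap_iff]
  exact Module.FaithfullyFlat.of_linearEquiv _ _
    (Algebra.TensorProduct.commRight k (R ⊗[k] R) K).symm.toLinearEquiv

end Groth.Agent.GIT36.FinAction
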