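import Groth.Agent.GIT36.Proj.Restrict
import Groth.Agent.GIT36.Quot.Pts
import Groth.Prelude.Def_W4bk4git07Quot
import Mathlib.AlgebraicGeometry.Morphisms.Finite

/-!
Finiteness of the orbit map from a cover by invariant opens.
-/

set_option autoImplicit false
set_option backward.isDefEq.respectTransparency.types false
set_option linter.style.haveILetI false
set_option linter.unusedSectionVars false

universe u

open CategoryTheory CategoryTheory.Limits MonoidalCategory CartesianMonoidalCategory MonObj AlgebraicGeometry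
  TopologicalSpace

noncomputable section

namespace Groth.Agent.GIT36.FinAction

/-- a finite morphism followed by an open immersion is finite once its image is closed -/
theorem isFinite_comp_of_isClosed_range {P Q R : Scheme.{u}} (p : P ⟶ Q) (j : Q ⟶ R) [IsFinite p]
    [IsOpenImmersion j] (h : IsClosed (Set.range (p ≫ j))) : IsFinite (p ≫ j) := by
  have hr : Set.range p.imageι = Set.range p := by
    rw [show Set.range p.imageι = p.ker.support from p.ker.range_subschemeι, Scheme.Hom.support_ker]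
    simpa using p.isClosedMap.isClosed_range.closure_eq
  haveI : IsClosedImmersion (p.imageι ≫ j) := IsClosedImmersion.of_isPreimmersion _ (by
    rw [Scheme.Hom.comp_base, TopCat.coe_comp, Set.range_comp, hr, ← Set.range_comp]
    exact h)
  haveI : IsFinite p.toImage := by
    haveI : IsFinite (p.toImage ≫ p.imageι) := by rw [p.toImage_imageι]; infer_instance
    exact IsFinite.of_comp p.toImage p.imageι
  rw [← p.toImage_imageι, Category.assoc]
  infer_instance

/-- the same with a closed set between the image and the open -/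
theorem isFinite_comp_of_closed_between {P Q R : Scheme.{u}} (p : P ⟶ Q) (j : Q ⟶ R) [IsFinite p]
    [IsOpenImmersion j] {Z : Set R} (hZ : IsClosed Z) (h₁ : Set.range (p ≫ j) ⊆ Z) (h₂ : Z ⊆ Set.range j) :
    IsFinite (p ≫ j) := by
  refine isFinite_comp_of_isClosed_range p j ?_
  have hp : IsClosed (Set.range p) := p.isClosedMap.isClosed_range
  obtain ⟨C, hC, hCp⟩ := j.isOpenEmbedding.isInducing.isClosed_iff.1 hp
  convert hZ.inter hC using 1
  ext z
  constructor
  · rintro ⟨x, rfl⟩
    exact ⟨h₁ ⟨x, rfl⟩, by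
      show j (p x) ∈ C
      rw [← Set.mem_preimage, hCp]
      exact ⟨x, rfl⟩⟩
  · rintro ⟨hzZ, hzC⟩
    obtain ⟨q, rfl⟩ := h₂ hzZ
    obtain ⟨x, rfl⟩ : q ∈ Set.range p := hCp ▸ hzC
    exact ⟨x, rfl⟩

/-- the vanishing set of `a * b - 1` lies where `a` is invertible -/
theorem mem_basicOpen_of_not_mem {X : Scheme.{u}} {U : X.Opens} (a b : Γ(X, U)) {x : X} (hx : x ∈ U)
    (h : x ∉ X.basicOpen (a * b - 1)) : x ∈ X.basicOpen a := by
  rw [X.mem_basicOpen _ x hx] at h ⊢
  by_contra ha
  refine h ?_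
  rw [map_sub, map_mul, map_one]
  have hm : X.presheaf.germ U x hx a * X.presheaf.germ U x hx b ∈
      IsLocalRing.maximalIdeal (X.presheaf.stalk x) :=
    Ideal.mul_mem_right _ _ ((IsLocalRing.mem_maximalIdeal _).2 ha)
  rw [← neg_sub]
  exact IsUnit.neg (IsLocalRing.isUnit_one_sub_self_of_mem_nonunits _ hm)

section Pair

variable {S : Scheme.{u}} {X X' Y Y' : Over S}

theorem tensorHom_left (f : X ⟶ X') (g : Y ⟶ Y') :
    (f ⊗ₘ g).left = pullback.map X.hom Y.hom X'.hom Y'.hom f.left g.left (𝟙 _)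
      (by simp [Over.w f]) (by simp [Over.w g]) := by
  apply pullback.hom_ext
  · rw [pullback.lift_fst]
    show (f ⊗ₘ g).left ≫ (fst X' Y').left = (fst X Y).left ≫ f.left
    rw [← Over.comp_left, tensorHom_fst, Over.comp_left]
  · rw [pullback.lift_snd]
    show (f ⊗ₘ g).left ≫ (snd X' Y').left = (snd X Y).left ≫ g.left
    rw [← Over.comp_left, tensorHom_snd, Over.comp_left]

theorem range_tensorHom (f : X ⟶ X') (g : Y ⟶ Y') :
    Set.range (f ⊗ₘ g).left = (fst X' Y').left ⁻¹' Set.range f.left ∩ (snd X' Y').left ⁻¹' Set.range g.left := by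
  rw [tensorHom_left]
  exact Scheme.Pullback.range_map _ _ _ _ _ _ _ _ _

theorem isOpenImmersion_tensorHom (f : X ⟶ X') (g : Y ⟶ Y') [IsOpenImmersion f.left] [IsOpenImmersion g.left] :
    IsOpenImmersion (f ⊗ₘ g).left := by
  rw [tensorHom_left]
  infer_instance

variable {P V W W' : Over S} (p : P ⟶ V ⊗ V) (iW : V ⟶ W) (iW' : V ⟶ W')

/-- closedness from a separated map to a common base -/
theorem isFinite_pair_of_separated [IsFinite p.left] [IsOpenImmersion iW.left] [IsOpenImmersion iW'.left]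
    {Y : Over S} [IsSeparated Y.hom] (φW : W ⟶ Y) (φW' : W' ⟶ Y)
    (hφ : p ≫ fst V V ≫ iW ≫ φW = p ≫ snd V V ≫ iW' ≫ φW')
    (hr : ∀ (x : W.left) (x' : W'.left), φW.left x = φW'.left x' →
      x ∈ Set.range iW.left ∧ x' ∈ Set.range iW'.left) :
    IsFinite (p ≫ (iW ⊗ₘ iW')).left := by
  haveI := isOpenImmersion_tensorHom iW iW'
  let d : Y ⟶ Y ⊗ Y := lift (𝟙 Y) (𝟙 Y)
  haveI : IsClosedImmersion d.left := by
    have e : d.left = pullback.diagonal Y.hom := by
      apply pullback.hom_ext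
      · rw [pullback.diagonal_fst]
        exact congrArg (fun m => m.left) (lift_fst (𝟙 Y) (𝟙 Y))
      · rw [pullback.diagonal_snd]
        exact congrArg (fun m => m.left) (lift_snd (𝟙 Y) (𝟙 Y))
    rw [e]
    infer_instance
  rw [Over.comp_left]
  refine isFinite_comp_of_closed_between _ _ (Z := (φW ⊗ₘ φW').left ⁻¹' Set.range d.left)
    (d.left.isClosedEmbedding.isClosed_range.preimage (φW ⊗ₘ φW').left.continuous) ?_ ?_
  · rintro _ ⟨x, rfl⟩
    have e : (p ≫ (iW ⊗ₘ iW')) ≫ (φW ⊗ₘ φW') = (p ≫ fst V V ≫ iW ≫ φW) ≫ d := by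
      apply CartesianMonoidalCategory.hom_ext
      · simp [d]
      · simp only [d, Category.assoc, tensorHom_snd, tensorHom_snd_assoc, lift_snd, Category.comp_id]
        rw [hφ]
    refine ⟨(p ≫ fst V V ≫ iW ≫ φW).left x, ?_⟩
    rw [← Scheme.Hom.comp_apply, ← Over.comp_left, ← e]
    simp only [Over.comp_left, Scheme.Hom.comp_apply]
  · intro z hz
    obtain ⟨y, hy⟩ := hz
    rw [range_tensorHom]
    refine hr _ _ ?_
    have h1 : φW.left ((fst W W').left z) = (fst Y Y).left ((φW ⊗ₘ φW').left z) := by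
      rw [← Scheme.Hom.comp_apply, ← Scheme.Hom.comp_apply, ← Over.comp_left, ← Over.comp_left, tensorHom_fst]
    have h2 : φW'.left ((snd W W').left z) = (snd Y Y).left ((φW ⊗ₘ φW').left z) := by
      rw [← Scheme.Hom.comp_apply, ← Scheme.Hom.comp_apply, ← Over.comp_left, ← Over.comp_left, tensorHom_snd]
    rw [h1, h2, ← hy, ← Scheme.Hom.comp_apply, ← Scheme.Hom.comp_apply, ← Over.comp_left, ← Over.comp_left]
    simp [d]

/-- closedness from functions -/
theorem isFinite_pair_of_functions [IsFinite p.left] [IsOpenImmersion iW.left] [IsOpenImmersion iW'.left]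
    (s t' : Γ(W.left, ⊤)) (t s' : Γ(W'.left, ⊤))
    (hs : (W.left.basicOpen s : Set W.left) = Set.range iW.left)
    (ht : (W'.left.basicOpen t : Set W'.left) = Set.range iW'.left)
    (h₁ : (p ≫ fst V V ≫ iW).left.appTop s * (p ≫ snd V V ≫ iW').left.appTop s' = 1)
    (h₂ : (p ≫ snd V V ≫ iW').left.appTop t * (p ≫ fst V V ≫ iW).left.appTop t' = 1) :
    IsFinite (p ≫ (iW ⊗ₘ iW')).left := by
  haveI := isOpenImmersion_tensorHom iW iW'
  let F := (fst W W').left.appTop
  let H := (snd W W').left.appTop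
  let c₁ := F s * H s' - 1
  let c₂ := H t * F t' - 1
  have hF : ∀ r, (p.left ≫ (iW ⊗ₘ iW').left).appTop (F r) = (p ≫ fst V V ≫ iW).left.appTop r := fun r => by
    rw [← tensorHom_fst iW iW', ← Category.assoc, Over.comp_left, Over.comp_left]
    rfl
  have hH : ∀ r, (p.left ≫ (iW ⊗ₘ iW').left).appTop (H r) = (p ≫ snd V V ≫ iW').left.appTop r := fun r => by
    rw [← tensorHom_snd iW iW', ← Category.assoc, Over.comp_left, Over.comp_left]
    rfl
  rw [Over.comp_left]
  refine isFinite_comp_of_closed_between _ _ (Z := (W ⊗ W').left.zeroLocus (U := ⊤) {c₁, c₂})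
    ((W ⊗ W').left.zeroLocus_isClosed _) ?_ ?_
  · rintro _ ⟨x, rfl⟩
    rw [Scheme.mem_zeroLocus_iff]
    intro f hf hmem
    have h0 : (p.left ≫ (iW ⊗ₘ iW').left).appTop f = 0 := by
      rcases hf with rfl | rfl
      · simp only [c₁, map_sub, map_mul, map_one, hF, hH, h₁, sub_self]
      · simp only [c₂, map_sub, map_mul, map_one, hF, hH, h₂, sub_self]
    have hx : x ∈ (p.left ≫ (iW ⊗ₘ iW').left) ⁻¹ᵁ (W ⊗ W').left.basicOpen f := hmem
    rw [Scheme.Hom.preimage_basicOpen_top, h0, Scheme.basicOpen_zero] at hx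
    exact hx.elim
  · intro z hz
    rw [Scheme.mem_zeroLocus_iff] at hz
    rw [range_tensorHom, ← hs, ← ht]
    constructor
    · have h := mem_basicOpen_of_not_mem (F s) (H s') (x := z) trivial (hz c₁ (Set.mem_insert _ _))
      rw [← Scheme.Hom.preimage_basicOpen_top] at h
      exact h
    · have h := mem_basicOpen_of_not_mem (H t) (F t') (x := z) trivial
        (hz c₂ (Set.mem_insert_of_mem _ rfl))
      rw [← Scheme.Hom.preimage_basicOpen_top] at h
      exact h

end Pair

section Cover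

open Proj

variable {S : Scheme.{u}} {G X : Over S} [GrpObj G] (a : AlgGrp.Action G X)

theorem inv_inf {W W' : X.left.Opens} (h : a.act.left ⁻¹ᵁ W = (snd G X).left ⁻¹ᵁ W)
    (h' : a.act.left ⁻¹ᵁ W' = (snd G X).left ⁻¹ᵁ W') :
    a.act.left ⁻¹ᵁ (W ⊓ W') = (snd G X).left ⁻¹ᵁ (W ⊓ W') := by
  rw [Scheme.Hom.preimage_inf, Scheme.Hom.preimage_inf, h, h']

/-- inclusion of opens -/
abbrev inclLE {U W : X.left.Opens} (h : U ≤ W) : openObj U ⟶ openObj W :=
  Over.homMk (X.left.homOfLE h) (by simp)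

/-- the orbit map between two invariant opens -/
def pairPsi {W W' : X.left.Opens} (hinv : a.act.left ⁻¹ᵁ (W ⊓ W') = (snd G X).left ⁻¹ᵁ (W ⊓ W')) :
    G ⊗ openObj (W ⊓ W') ⟶ openObj W ⊗ openObj W' :=
  GIT.psi (resAct a _ hinv) (𝟙 _) ≫ (inclLE inf_le_left ⊗ₘ inclLE inf_le_right)

instance isOpenImmersion_openIncl (V : X.left.Opens) : IsOpenImmersion (openIncl V).left :=
  inferInstanceAs (IsOpenImmersion V.ι)

theorem range_whiskerLeft_openIncl (V : X.left.Opens) :
    Set.range (G ◁ openIncl V).left = ((snd G X).left ⁻¹ᵁ V : Set (G ⊗ X).left) := by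
  have hpb := Quot.isPullback_whiskerLeft_left G (openIncl V)
  ext p
  constructor
  · rintro ⟨q, rfl⟩
    show ((G ◁ openIncl V).left ≫ (snd G X).left) q ∈ V
    rw [hpb.w]
    exact ((snd G (openObj V)).left q).2
  · intro hp
    obtain ⟨q, hq1, -⟩ := Scheme.exists_preimage_of_isPullback hpb p ⟨_, hp⟩ rfl
    exact ⟨q, hq1⟩

theorem pairPsi_pullback {W W' : X.left.Opens} (hW : a.act.left ⁻¹ᵁ W = (snd G X).left ⁻¹ᵁ W)
    (hW' : a.act.left ⁻¹ᵁ W' = (snd G X).left ⁻¹ᵁ W') :
    haveI := isOpenImmersion_tensorHom (openIncl W) (openIncl W')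
    IsPullback (pairPsi a (inv_inf a hW hW')).left (G ◁ openIncl (W ⊓ W')).left
      (openIncl W ⊗ₘ openIncl W').left (GIT.psi a (𝟙 X)).left := by
  haveI := isOpenImmersion_tensorHom (openIncl W) (openIncl W')
  haveI : IsOpenImmersion (G ◁ openIncl (W ⊓ W')).left := by
    rw [← id_tensorHom]
    exact isOpenImmersion_tensorHom _ _
  refine IsOpenImmersion.isPullback _ _ _ _ ?_ ?_
  · rw [← Over.comp_left, ← Over.comp_left]
    refine congrArg CategoryTheory.CommaMorphism.left ?_
    rw [pairPsi, Category.assoc, tensorHom_comp_tensorHom, GIT.psi, GIT.psi, comp_lift,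
      lift_map, whiskerLeft_id, whiskerLeft_id, Category.id_comp, Category.id_comp]
    rw [show inclLE (inf_le_left : W ⊓ W' ≤ W) ≫ openIncl W = openIncl (W ⊓ W') from
        Over.OverMorphism.ext (X.left.homOfLE_ι _),
      show inclLE (inf_le_right : W ⊓ W' ≤ W') ≫ openIncl W' = openIncl (W ⊓ W') from
        Over.OverMorphism.ext (X.left.homOfLE_ι _), resAct_comp, whiskerLeft_snd]
    all_goals first | exact inf_le_left | exact inf_le_right
  · ext1
    simp only [Scheme.Hom.coe_preimage, Scheme.Hom.coe_opensRange, range_tensorHom, range_whiskerLeft_openIncl,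
      Set.preimage_inter]
    have h1 : (GIT.psi a (𝟙 X)).left ≫ (fst X X).left = a.act.left := by
      rw [← Over.comp_left, GIT.psi, lift_fst, whiskerLeft_id, Category.id_comp]
    have h2 : (GIT.psi a (𝟙 X)).left ≫ (snd X X).left = (snd G X).left := by
      rw [← Over.comp_left, GIT.psi, lift_snd]
    ext p
    simp only [Set.mem_inter_iff, Set.mem_preimage]
    rw [← Scheme.Hom.comp_apply, ← Scheme.Hom.comp_apply, h1, h2]
    show p ∈ a.act.left ⁻¹' Set.range W.ι ∧ (snd G X).left p ∈ Set.range W'.ι ↔ _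
    rw [Scheme.Opens.range_ι, Scheme.Opens.range_ι, show a.act.left ⁻¹' (W : Set X.left) =
      (snd G X).left ⁻¹' (W : Set X.left) from congrArg (fun O : (G ⊗ X).left.Opens => (O : Set (G ⊗ X).left)) hW]
    rfl

/-- the orbit map is finite if it is so between the members of a cover -/
theorem isFinite_psi_of_cover {J : Type*} (W : J → X.left.Opens) (hcov : iSup W = ⊤)
    (hinv : ∀ i, a.act.left ⁻¹ᵁ W i = (snd G X).left ⁻¹ᵁ W i)
    (h : ∀ i j, IsFinite (pairPsi a (inv_inf a (hinv i) (hinv j))).left) :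
    IsFinite (GIT.psi a (𝟙 X)).left := by
  haveI hop := fun i j => isOpenImmersion_tensorHom (openIncl (W i)) (openIncl (W j))
  refine IsZariskiLocalAtTarget.of_iSup_eq_top
    (fun q : J × J => (openIncl (W q.1) ⊗ₘ openIncl (W q.2)).left.opensRange) ?_ fun q => ?_
  · rw [eq_top_iff]
    intro z _
    have hm : ∀ x : X.left, ∃ i, x ∈ W i := fun x => Opens.mem_iSup.1 (hcov ▸ Opens.mem_top x)
    obtain ⟨i, hi⟩ := hm ((fst X X).left z)
    obtain ⟨j, hj⟩ := hm ((snd X X).left z)
    refine Opens.mem_iSup.2 ⟨⟨i, j⟩, ?_⟩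
    show z ∈ Set.range (openIncl (W i) ⊗ₘ openIncl (W j)).left
    rw [range_tensorHom]
    exact ⟨by rw [Set.mem_preimage, show Set.range (openIncl (W i)).left = _ from Scheme.Opens.range_ι _]; exact hi,
      by rw [Set.mem_preimage, show Set.range (openIncl (W j)).left = _ from Scheme.Opens.range_ι _]; exact hj⟩
  · refine (MorphismProperty.arrow_mk_iso_iff (P := @IsFinite) (morphismRestrictOpensRange _ _)).2 ?_
    have hpb := (pairPsi_pullback a (hinv q.1) (hinv q.2)).flip
    rw [← MorphismProperty.cancel_left_of_respectsIso @IsFinite hpb.isoPullback.hom, hpb.isoPullback_hom_snd]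
    exact h q.1 q.2

theorem inclLE_comp {U W : X.left.Opens} (h : U ≤ W) : inclLE h ≫ openIncl W = openIncl U :=
  Over.OverMorphism.ext (X.left.homOfLE_ι h)

theorem range_eq_preimage_range {A B C : Scheme.{u}} (i : A ⟶ B) (j : B ⟶ C) [IsOpenImmersion j] :
    Set.range i = j ⁻¹' Set.range (i ≫ j) := by
  ext b
  refine ⟨fun ⟨x, hx⟩ => ⟨x, by rw [Scheme.Hom.comp_apply, hx]⟩, fun ⟨x, hx⟩ => ⟨x, j.isOpenEmbedding.injective ?_⟩⟩
  rwa [← Scheme.Hom.comp_apply]

/-- the restricted action sees the ambient orbit map -/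
theorem psi_resAct_comp (U : X.left.Opens) (hU : a.act.left ⁻¹ᵁ U = (snd G X).left ⁻¹ᵁ U) :
    GIT.psi (resAct a U hU) (𝟙 _) ≫ (openIncl U ⊗ₘ openIncl U) = (G ◁ openIncl U) ≫ GIT.psi a (𝟙 X) := by
  rw [GIT.psi, GIT.psi, comp_lift, lift_map, whiskerLeft_id, whiskerLeft_id, Category.id_comp, Category.id_comp,
    resAct_comp, whiskerLeft_snd]

/-- the orbit map of an invariant open is finite if it is so between the members of a cover -/
theorem isFinite_psi_open_of_cover {J : Type*} (W : J → X.left.Opens) (U : X.left.Opens) (hcov : iSup W = U)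
    (hU : a.act.left ⁻¹ᵁ U = (snd G X).left ⁻¹ᵁ U) (hinv : ∀ i, a.act.left ⁻¹ᵁ W i = (snd G X).left ⁻¹ᵁ W i)
    (h : ∀ i j, IsFinite (pairPsi a (inv_inf a (hinv i) (hinv j))).left) :
    IsFinite (GIT.psi (resAct a U hU) (𝟙 _)).left := by
  have hle : ∀ i, W i ≤ U := fun i => hcov ▸ le_iSup W i
  haveI hhom : ∀ {V : X.left.Opens} (h : V ≤ U), IsOpenImmersion (inclLE h).left := fun h =>
    inferInstanceAs (IsOpenImmersion (X.left.homOfLE h))
  haveI hop := fun i j => isOpenImmersion_tensorHom (inclLE (hle i)) (inclLE (hle j))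
  refine IsZariskiLocalAtTarget.of_iSup_eq_top
    (fun q : J × J => (inclLE (hle q.1) ⊗ₘ inclLE (hle q.2)).left.opensRange) ?_ fun q => ?_
  · rw [eq_top_iff]
    intro z _
    have hm : ∀ x : (openObj U).left, ∃ i, x ∈ Set.range (inclLE (hle i)).left := fun x => by
      obtain ⟨i, hi⟩ := Opens.mem_iSup.1 (hcov.symm ▸ x.2 : (x.1 : X.left) ∈ iSup W)
      exact ⟨i, ⟨x.1, hi⟩, U.ι.isOpenEmbedding.injective
        (by rw [← Scheme.Hom.comp_apply]; exact congr($(X.left.homOfLE_ι (hle i)) ⟨x.1, hi⟩))⟩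
    obtain ⟨i, hi⟩ := hm ((fst (openObj U) (openObj U)).left z)
    obtain ⟨j, hj⟩ := hm ((snd (openObj U) (openObj U)).left z)
    refine Opens.mem_iSup.2 ⟨⟨i, j⟩, ?_⟩
    show z ∈ Set.range (inclLE (hle i) ⊗ₘ inclLE (hle j)).left
    rw [range_tensorHom]
    exact ⟨hi, hj⟩
  · haveI := isOpenImmersion_tensorHom (openIncl U) (openIncl U)
    haveI := isOpenImmersion_tensorHom (openIncl (W q.1)) (openIncl (W q.2))
    have hVU : W q.1 ⊓ W q.2 ≤ U := inf_le_left.trans (hle q.1)
    haveI := hhom hVU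
    haveI : IsOpenImmersion (G ◁ inclLE hVU).left := by
      rw [← id_tensorHom]
      exact isOpenImmersion_tensorHom _ _
    haveI : IsOpenImmersion (G ◁ openIncl U).left := by
      rw [← id_tensorHom]
      exact isOpenImmersion_tensorHom _ _
    have hp := pairPsi_pullback a (hinv q.1) (hinv q.2)
    have e1 : (inclLE (hle q.1) ⊗ₘ inclLE (hle q.2)) ≫ (openIncl U ⊗ₘ openIncl U) =
        (openIncl (W q.1) ⊗ₘ openIncl (W q.2)) := by
      rw [tensorHom_comp_tensorHom, inclLE_comp, inclLE_comp]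
    have e2 : (G ◁ inclLE hVU) ≫ (G ◁ openIncl U) = G ◁ openIncl (W q.1 ⊓ W q.2) := by
      rw [← MonoidalCategory.whiskerLeft_comp, inclLE_comp]
    have hsq : IsPullback (pairPsi a (inv_inf a (hinv q.1) (hinv q.2))).left (G ◁ inclLE hVU).left
        (inclLE (hle q.1) ⊗ₘ inclLE (hle q.2)).left (GIT.psi (resAct a U hU) (𝟙 _)).left := by
      refine IsOpenImmersion.isPullback _ _ _ _ ?_ ?_
      · rw [← cancel_mono (openIncl U ⊗ₘ openIncl U).left, ← Over.comp_left, ← Over.comp_left, ← Over.comp_left,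
          ← Over.comp_left, Category.assoc, Category.assoc, e1, psi_resAct_comp, ← Category.assoc, e2]
        simpa only [Over.comp_left] using hp.w.symm
      · ext1
        simp only [Scheme.Hom.coe_preimage, Scheme.Hom.coe_opensRange]
        rw [range_eq_preimage_range (inclLE (hle q.1) ⊗ₘ inclLE (hle q.2)).left (openIncl U ⊗ₘ openIncl U).left,
          ← Over.comp_left, e1, range_eq_preimage_range (G ◁ inclLE hVU).left (G ◁ openIncl U).left,
          ← Over.comp_left, e2, ← Set.preimage_comp, ← TopCat.coe_comp, ← Scheme.Hom.comp_base, ← Over.comp_left,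
          psi_resAct_comp, Over.comp_left, Scheme.Hom.comp_base, TopCat.coe_comp, Set.preimage_comp]
        refine congrArg _ ?_
        ext p
        constructor
        · rintro ⟨z, hz⟩
          obtain ⟨r, -, hr⟩ := Scheme.exists_preimage_of_isPullback hp z p hz
          exact ⟨r, hr⟩
        · rintro ⟨r, rfl⟩
          refine ⟨(pairPsi a (inv_inf a (hinv q.1) (hinv q.2))).left r, ?_⟩
          rw [← Scheme.Hom.comp_apply, hp.w, Scheme.Hom.comp_apply]
    refine (MorphismProperty.arrow_mk_iso_iff (P := @IsFinite) (morphismRestrictOpensRange _ _)).2 ?_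
    rw [← MorphismProperty.cancel_left_of_respectsIso @IsFinite hsq.flip.isoPullback.hom,
      hsq.flip.isoPullback_hom_snd]
    exact h q.1 q.2

end Cover

end Groth.Agent.GIT36.FinAction
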