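import Groth.Agent.GIT36.FinAction.Algebra
import Groth.Agent.GIT36.Proj.Pts
import Mathlib.AlgebraicGeometry.Morphisms.Finite

/-!
The orbit map of an action on an affine scheme with finite stabilisers is finite.
-/

set_option autoImplicit false
set_option backward.isDefEq.respectTransparency.types false
set_option linter.style.haveILetI false
set_option linter.unusedSectionVars false

universe u

open CategoryTheory CategoryTheory.Limits MonoidalCategory CartesianMonoidalCategory MonObj GrpObj AlgebraicGeometry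
  Opposite WithConv
open scoped TensorProduct
open Groth.Agent.GIT36.Mu Groth.Agent.FinSub96

noncomputable section

namespace Groth.Agent.GIT36.FinAction

variable {k : Type u} [Field k] {G X : Over (St k)} [GrpObj G] [IsAffine X.left]
  {A : Type u} [CommRing A] [HopfAlgebra k A] (ψ : GMod80.sp k A ≅ G) [IsMonHom ψ.hom]
  (a : AlgGrp.Action G X)

variable (X) in
/-- the pair of coordinates on the square -/
def sqMap : VecGrp.pt k (Γ(X.left, ⊤) ⊗[k] Γ(X.left, ⊤)) ⟶ X ⊗ X :=
  lift (AffQuot.xe Algebra.TensorProduct.includeLeft) (AffQuot.xe Algebra.TensorProduct.includeRight)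

theorem isIso_sqMap : IsIso (sqMap X).left := by
  let R := Γ(X.left, ⊤)
  let w : X ⊗ X ≅ VecGrp.pt k R ⊗ VecGrp.pt k R :=
    MonoidalCategory.tensorIso (AffQuot.chi X).symm (AffQuot.chi X).symm
  haveI hw : IsIso w.hom.left := ((Over.forget _).mapIso w).isIso_hom
  have hpw : (sqMap X).left ≫ w.hom.left = (pullbackSpecIso k R R).inv := by
    apply pullback.hom_ext
    · refine Eq.trans ?_ (pullbackSpecIso_inv_fst k R R).symm
      change ((sqMap X).left ≫ w.hom.left) ≫ (fst (VecGrp.pt k R) (VecGrp.pt k R)).left = _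
      have : sqMap X ≫ w.hom ≫ fst (VecGrp.pt k R) (VecGrp.pt k R) =
          VecGrp.ptMap Algebra.TensorProduct.includeLeft := by
        simp [w, sqMap, AffQuot.xe]
      rw [Category.assoc, ← Over.comp_left, ← Over.comp_left, this]
      rfl
    · refine Eq.trans ?_ (pullbackSpecIso_inv_snd k R R).symm
      change ((sqMap X).left ≫ w.hom.left) ≫ (snd (VecGrp.pt k R) (VecGrp.pt k R)).left = _
      have : sqMap X ≫ w.hom ≫ snd (VecGrp.pt k R) (VecGrp.pt k R) =
          VecGrp.ptMap Algebra.TensorProduct.includeRight := by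
        simp [w, sqMap, AffQuot.xe]
      rw [Category.assoc, ← Over.comp_left, ← Over.comp_left, this]
      rfl
  have hc : IsIso ((sqMap X).left ≫ w.hom.left) := by rw [hpw]; exact Iso.isIso_inv _
  exact @IsIso.of_isIso_comp_right _ _ _ _ _ (sqMap X).left w.hom.left hw hc

/-- coordinates on the product with the group -/
def pairMap : VecGrp.pt k (Γ(X.left, ⊤) ⊗[k] A) ⟶ G ⊗ X :=
  lift (GMod80.e ψ _ (toConv Algebra.TensorProduct.includeRight))⁻¹ (AffQuot.xe Algebra.TensorProduct.includeLeft)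

theorem isIso_pairMap : IsIso (pairMap (X := X) ψ).left := by
  let R := Γ(X.left, ⊤)
  let T := (R : Type u) ⊗[k] A
  haveI := LinRedChar0.isIso_pairIso ψ (R : Type u)
  have hj : pairMap ψ = VecGrp.ptMap (Algebra.TensorProduct.comm k A R).toAlgHom ≫ GMod80.pairIso ψ R ≫
      (ι[G] ⊗ₘ (AffQuot.chi X).hom) := by
    rw [GMod80.pairIso, lift_map, comp_lift, ← Category.assoc, GMod80.e_natural]
    apply CartesianMonoidalCategory.hom_ext <;> simp only [pairMap, lift_fst, lift_snd]
    · rw [← Hom.inv_def]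
      congr 2
    · rw [← AffQuot.xe_id, AffQuot.xe_natural, AffQuot.xe_natural]
      congr 1
  haveI : IsIso (VecGrp.ptMap (R := k) (Algebra.TensorProduct.comm k A R).toAlgHom).left := by
    rw [VecGrp.ptMap_left]
    exact (Scheme.Spec.mapIso
      (Algebra.TensorProduct.comm k A R).toRingEquiv.toCommRingCatIso.op).isIso_hom
  haveI : IsIso (GMod80.pairIso ψ R).left := ((Over.forget _).mapIso (asIso (GMod80.pairIso ψ R))).isIso_hom
  haveI : IsIso ι[G] := ⟨ι[G], GrpObj.inv_comp_inv G, GrpObj.inv_comp_inv G⟩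
  haveI : IsIso (ι[G] ⊗ₘ (AffQuot.chi X).hom).left :=
    ((Over.forget _).mapIso (asIso (ι[G] ⊗ₘ (AffQuot.chi X).hom))).isIso_hom
  rw [hj, Over.comp_left, Over.comp_left]
  infer_instance

/-- the orbit map in coordinates -/
theorem pairMap_psi :
    letI := AffQuot.comod ψ a
    haveI := AffQuot.isCoactAlg ψ a
    pairMap ψ ≫ GIT.psi a (𝟙 X) = VecGrp.ptMap ((Algebra.TensorProduct.comm k A Γ(X.left, ⊤)).toAlgHom.comp
      (orbitFn k A Γ(X.left, ⊤))) ≫ sqMap X := by
  letI := AffQuot.comod ψ a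
  haveI := AffQuot.isCoactAlg ψ a
  rw [GIT.psi, comp_lift, sqMap, comp_lift, AffQuot.xe_natural, AffQuot.xe_natural, whiskerLeft_id,
    Category.id_comp, pairMap, lift_snd]
  refine congrArg₂ (fun u v => lift u v) ?_ ?_
  · refine (AffQuot.xe_coact ψ a).symm.trans (congrArg AffQuot.xe (AlgHom.ext fun r => ?_))
    show _ = (Algebra.TensorProduct.comm k A Γ(X.left, ⊤)) (orbitFn k A Γ(X.left, ⊤) (r ⊗ₜ 1))
    rw [orbitFn, Algebra.TensorProduct.lift_tmul, map_one, _root_.mul_one, actFn, AlgHom.comp_apply]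
    exact ((Algebra.TensorProduct.comm k A Γ(X.left, ⊤)).apply_symm_apply _).symm
  · refine congrArg AffQuot.xe (AlgHom.ext fun r => ?_)
    show _ = (Algebra.TensorProduct.comm k A Γ(X.left, ⊤)) (orbitFn k A Γ(X.left, ⊤) (1 ⊗ₜ r))
    simp [orbitFn]

include ψ in
/-- finiteness of the orbit map from its coordinates -/
theorem isFinite_psi_of_orbitFn
    (hfin : letI := AffQuot.comod ψ a
      haveI := AffQuot.isCoactAlg ψ a
      (orbitFn k A Γ(X.left, ⊤)).toRingHom.Finite) :
    IsFinite (GIT.psi a (𝟙 X)).left := by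
  letI := AffQuot.comod ψ a
  haveI := AffQuot.isCoactAlg ψ a
  have hγ : ((Algebra.TensorProduct.comm k A Γ(X.left, ⊤)).toAlgHom.comp
      (orbitFn k A Γ(X.left, ⊤))).toRingHom.Finite :=
    RingHom.Finite.comp (RingHom.Finite.of_surjective _ (Algebra.TensorProduct.comm k A Γ(X.left, ⊤)).surjective) hfin
  haveI := isIso_pairMap (X := X) ψ
  haveI := isIso_sqMap (X := X)
  have h : IsFinite ((pairMap (X := X) ψ).left ≫ (GIT.psi a (𝟙 X)).left) := by
    rw [← Over.comp_left, pairMap_psi, Over.comp_left, VecGrp.ptMap_left]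
    have : IsFinite (Spec.map (CommRingCat.ofHom ((Algebra.TensorProduct.comm k A Γ(X.left, ⊤)).toAlgHom.comp
        (orbitFn k A Γ(X.left, ⊤))).toRingHom)) := (IsFinite.SpecMap_iff _).2 hγ
    infer_instance
  have h' := (inferInstance : IsFinite (inv (pairMap (X := X) ψ).left ≫ ((pairMap (X := X) ψ).left ≫
    (GIT.psi a (𝟙 X)).left)))
  rwa [IsIso.inv_hom_id_assoc] at h'

variable [IsAlgClosed k] [Algebra.FiniteType k A] [IsReduced A] [Algebra.FiniteType k Γ(X.left, ⊤)]

include ψ in
/-- linearly reductive group, finite stabilisers, affine scheme: the orbit map is finite -/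
theorem isFinite_psi (hLR : HopfRep.IsLinearlyReductive k A)
    (hst : ∀ x : Pt k ⟶ X, {g : Pt k ⟶ G | lift g x ≫ a.act = x}.Finite) :
    IsFinite (GIT.psi a (𝟙 X)).left := by
  letI := AffQuot.comod ψ a
  haveI := AffQuot.isCoactAlg ψ a
  exact isFinite_psi_of_orbitFn ψ a
    (finite_orbitFn (R := Γ(X.left, ⊤)) hLR fun x => (Proj.hasFiniteStab_iff_pts ψ a x).2 (hst _))

end Groth.Agent.GIT36.FinAction
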