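import Groth.Agent.GIT36.Proj.StabPts
import Groth.Agent.GIT36.Proj.Restrict
import Groth.Agent.GIT36.Proj.OrbitSurj
import Groth.Agent.GIT36.FinAction.Scheme
import Groth.Agent.GIT36.FinAction.Glue
import Mathlib.AlgebraicGeometry.Artinian

/-!
Stabilisers over an invariant open, and the open set where they are finite.
-/

set_option autoImplicit false
set_option backward.isDefEq.respectTransparency.types false
set_option linter.style.haveILetI false
set_option linter.unusedSectionVars false

universe u

open CategoryTheory CategoryTheory.Limits MonoidalCategory CartesianMonoidalCategory MonObj GrpObj AlgebraicGeometry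
  TopologicalSpace
open Groth.Agent.GIT36.Mu Groth.Agent.H98EqInt
open Groth.Agent.GIT36.Proj

noncomputable section

namespace Groth.Agent.GIT36.FinAction

section General

variable {S : Scheme.{u}} {G X : Over S} [GrpObj G] (a : AlgGrp.Action G X)

/-- stabilisers of points of an invariant open are those in the ambient scheme -/
theorem stabTo_res_iff (P : MorphismProperty Scheme.{u}) [P.RespectsIso] (U : X.left.Opens) (hU : a.act.left ⁻¹ᵁ U = (snd G X).left ⁻¹ᵁ U) {T : Over S}
    (f : T ⟶ openObj U) :
    P (GLinSh.stabTo (resAct a U hU) f) ↔ P (GLinSh.stabTo a (f ≫ openIncl U)) := by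
  let j : openObj U ⊗ T ⟶ X ⊗ T := openIncl U ▷ T
  haveI : IsOpenImmersion j.left := by
    rw [show j = openIncl U ⊗ₘ 𝟙 T from (tensorHom_id _ _).symm]
    exact isOpenImmersion_tensorHom _ _
  have e₁ : GIT.psi (resAct a U hU) f ≫ j = GIT.psi a (f ≫ openIncl U) := by
    apply CartesianMonoidalCategory.hom_ext
    · simp only [GIT.psi, j, Category.assoc, whiskerRight_fst, lift_fst_assoc, lift_fst]
      rw [resAct_comp, MonoidalCategory.whiskerLeft_comp_assoc]
    · simp only [GIT.psi, j, Category.assoc, whiskerRight_snd, lift_snd]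
  have e₂ : lift f (𝟙 T) ≫ j = lift (f ≫ openIncl U) (𝟙 T) := by
    apply CartesianMonoidalCategory.hom_ext <;> simp [j]
  let i : pullback (GIT.psi (resAct a U hU) f).left (lift f (𝟙 T)).left ≅
      pullback (GIT.psi a (f ≫ openIncl U)).left (lift (f ≫ openIncl U) (𝟙 T)).left :=
    { hom := pullback.lift (pullback.fst _ _) (pullback.snd _ _) (by
        rw [← e₁, ← e₂, Over.comp_left, Over.comp_left, pullback.condition_assoc])
      inv := pullback.lift (pullback.fst _ _) (pullback.snd _ _) (by
        rw [← cancel_mono j.left, Category.assoc, Category.assoc, ← Over.comp_left, ← Over.comp_left, e₁, e₂,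
          pullback.condition])
      hom_inv_id := by
        apply pullback.hom_ext <;> simp only [Category.assoc, pullback.lift_fst, pullback.lift_snd, Category.id_comp]
      inv_hom_id := by
        apply pullback.hom_ext <;> simp only [Category.assoc, pullback.lift_fst, pullback.lift_snd, Category.id_comp] }
  haveI : IsIso i.hom := Iso.isIso_hom i
  show P (pullback.snd (GIT.psi (resAct a U hU) f).left (lift f (𝟙 T)).left) ↔
    P (pullback.snd (GIT.psi a (f ≫ openIncl U)).left (lift (f ≫ openIncl U) (𝟙 T)).left)
  rw [← show i.hom ≫ pullback.snd _ _ = pullback.snd (GIT.psi (resAct a U hU) f).left (lift f (𝟙 T)).left from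
    pullback.lift_snd _ _ _, MorphismProperty.cancel_left_of_respectsIso P]

/-- finiteness of stabilisers is insensitive to invariant opens -/
theorem isFinite_stabTo_res (U : X.left.Opens) (hU : a.act.left ⁻¹ᵁ U = (snd G X).left ⁻¹ᵁ U) {T : Over S}
    (f : T ⟶ openObj U) :
    IsFinite (GLinSh.stabTo (resAct a U hU) f) ↔ IsFinite (GLinSh.stabTo a (f ≫ openIncl U)) :=
  stabTo_res_iff a @IsFinite U hU f

/-- a finite orbit map gives finite stabilisers for all points -/
theorem isFinite_stabTo_of_psi (h : IsFinite (GIT.psi a (𝟙 X)).left) {T : Over S} (f : T ⟶ X) :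
    IsFinite (GLinSh.stabTo a f) := by
  haveI := h
  haveI : IsFinite (stToX a) := inferInstanceAs (IsFinite (pullback.snd _ _))
  rw [show GLinSh.stabTo a f = (Stab.stabIso a f).hom ≫ pullback.snd _ _ from (pullback.lift_snd _ _ _).symm,
    MorphismProperty.cancel_left_of_respectsIso @IsFinite]
  infer_instance

/-- finitely many points of the stabiliser scheme over a point with finite geometric stabiliser -/
theorem finite_fibre_of_stabTo {T : Over S} {Ω : Type u} [Field Ω] (eT : T.left ≅ Spec (CommRingCat.of Ω))
    (f : T ⟶ X) (h : IsFinite (GLinSh.stabTo a f)) {x : X.left} (hx : Set.range f.left.base = {x}) :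
    (stToX a ⁻¹' {x}).Finite := by
  let q := pullback.snd (stToX a) f.left
  haveI : IsFinite q := by
    rwa [show GLinSh.stabTo a f = (Stab.stabIso a f).hom ≫ q from (pullback.lift_snd _ _ _).symm,
      MorphismProperty.cancel_left_of_respectsIso @IsFinite] at h
  haveI : Subsingleton (Spec (CommRingCat.of Ω)) := inferInstanceAs (Subsingleton (PrimeSpectrum Ω))
  haveI : Subsingleton T.left := eT.hom.homeomorph.injective.subsingleton
  haveI : Finite ↥(pullback (stToX a) f.left) := by
    haveI : Nonempty T.left := ⟨eT.inv (IsLocalRing.closedPoint Ω)⟩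
    obtain ⟨t⟩ := (inferInstance : Nonempty T.left)
    exact Set.finite_univ_iff.mp ((q.finite_preimage_singleton t).subset fun z _ => Subsingleton.elim _ _)
  refine (Set.finite_range (pullback.fst (stToX a) f.left).base).subset fun p hp => ?_
  obtain ⟨t, ht⟩ : x ∈ Set.range f.left.base := hx ▸ Set.mem_singleton x
  obtain ⟨z, hz, -⟩ := Scheme.Pullback.exists_preimage_pullback (f := stToX a) (g := f.left) p t
    ((show stToX a p = x from hp).trans ht.symm)
  exact ⟨z, hz⟩

end General

section Field

variable {k : Type u} [Field k] {G X : Over (St k)} [GrpObj G] [LocallyOfFiniteType G.hom] [QuasiCompact G.hom]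
  [LocallyOfFiniteType X.hom] [IsSeparated X.hom] (a : AlgGrp.Action G X)

theorem quasiCompact_stToX : QuasiCompact (stToX a) := by
  haveI : QuasiCompact (GIT.psi a (𝟙 X)).left := by
    haveI : QuasiCompact ((GIT.psi a (𝟙 X)).left ≫ (snd X X).left) := by
      rw [← Over.comp_left, GIT.psi, lift_snd]
      show QuasiCompact (pullback.snd G.hom X.hom)
      infer_instance
    haveI : IsSeparated (snd X X).left := inferInstanceAs (IsSeparated (pullback.snd X.hom X.hom))
    exact QuasiCompact.of_comp (GIT.psi a (𝟙 X)).left (snd X X).left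
  exact inferInstanceAs (QuasiCompact (pullback.snd _ _))

/-- finite fibres of the stabiliser scheme are those of dimension at most zero -/
theorem finite_fibre_iff_dim (x : X.left) :
    (stToX a ⁻¹' {x}).Finite ↔ ¬ (1 : WithBot ℕ∞) ≤ topologicalKrullDim ↥((stToX a).fiber x) := by
  haveI := H98EqInt.stToX_locallyOfFiniteType a
  haveI := quasiCompact_stToX a
  haveI : LocallyOfFiniteType ((stToX a).fiberToSpecResidueField x) :=
    MorphismProperty.pullback_snd (P := @LocallyOfFiniteType) (stToX a) _ inferInstance
  haveI : IsLocallyNoetherian ((stToX a).fiber x) :=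
    LocallyOfFiniteType.isLocallyNoetherian ((stToX a).fiberToSpecResidueField x)
  constructor
  · intro h
    haveI := h.to_subtype
    haveI : Finite ((stToX a).fiber x) := Finite.of_equiv _ ((stToX a).fiberHomeo x).symm.toEquiv
    haveI : JacobsonSpace ((stToX a).fiber x) :=
      LocallyOfFiniteType.jacobsonSpace ((stToX a).fiberToSpecResidueField x)
    haveI : DiscreteTopology ((stToX a).fiber x) := JacobsonSpace.discreteTopology (Set.toFinite _)
    haveI : Nonempty ((stToX a).fiber x) :=
      ⟨((stToX a).fiberHomeo x).symm ⟨AGF80.StabDim.unitSec a x, by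
        show stToX a (AGF80.StabDim.unitSec a x) = x
        rw [← Scheme.Hom.comp_apply, AGF80.StabDim.unitSec_stToX]
        rfl⟩⟩
    exact fun h1 => absurd (h1.trans (topologicalKrullDim_zero_of_discreteTopology _)) (not_le.2 zero_lt_one)
  · intro h
    have h0 : topologicalKrullDim ↥((stToX a).fiber x) ≤ 0 := by
      generalize topologicalKrullDim ↥((stToX a).fiber x) = d at h ⊢
      cases d with
      | bot => exact bot_le
      | coe d =>
        rw [WithBot.one_le_coe] at h
        rw [WithBot.coe_le_zero]
        exact (Order.lt_one_iff.1 (not_le.1 h)).le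
    haveI := IsLocallyArtinian.of_topologicalKrullDim_le_zero h0
    haveI : Finite ((stToX a).fiber x) := finite_of_compact_of_discrete
    haveI : Finite ↥(stToX a ⁻¹' {x}) := Finite.of_equiv _ ((stToX a).fiberHomeo x).toEquiv
    exact Set.toFinite _

/-- finiteness of stabilisers is an open condition -/
theorem isOpen_finite_fibre : IsOpen {x : X.left | (stToX a ⁻¹' {x}).Finite} := by
  have h : {x : X.left | (stToX a ⁻¹' {x}).Finite} =
      {x : X.left | (1 : WithBot ℕ∞) ≤ topologicalKrullDim ↥((stToX a).fiber x)}ᶜ := by
    ext x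
    exact finite_fibre_iff_dim a x
  rw [h]
  exact (AGF80.StabDim.isClosed_setOf_le_dim_fiber a 1).isOpen_compl

variable [IsAlgClosed k]

/-- rational fixers over a point with finite stabiliser -/
theorem finite_pts_of_fibre (z : Pt k ⟶ X)
    (h : (stToX a ⁻¹' {z.left (IsLocalRing.closedPoint k)}).Finite) :
    {g : Pt k ⟶ G | lift g z ≫ a.act = z}.Finite := by
  refine finite_pts_of_isFinite a z ?_
  obtain ⟨hft, hqc⟩ := finiteness_stabTo a z
  haveI : IsClosedImmersion z.left := by
    haveI : IsClosedImmersion (z.left ≫ X.hom) := by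
      rw [Over.w z]
      exact inferInstanceAs (IsClosedImmersion (𝟙 (St k)))
    exact IsClosedImmersion.of_comp z.left X.hom
  haveI : Finite ↥(pullback (stToX a) z.left) := by
    haveI := h.to_subtype
    refine Finite.of_injective (fun p => (⟨pullback.fst (stToX a) z.left p, ?_⟩ :
      stToX a ⁻¹' {z.left (IsLocalRing.closedPoint k)})) fun p q e =>
      (pullback.fst (stToX a) z.left).isEmbedding.injective (congrArg Subtype.val e)
    show stToX a _ = _
    rw [← Scheme.Hom.comp_apply, pullback.condition, Scheme.Hom.comp_apply]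
    haveI : Subsingleton (Pt k).left := inferInstanceAs (Subsingleton (PrimeSpectrum k))
    exact congrArg _ (Subsingleton.elim _ _)
  haveI : Finite (GLinSh.stab a z) := Finite.of_equiv _ (Stab.stabIso a z).hom.homeomorph.symm.toEquiv
  let f : GLinSh.stab a z ⟶ Spec (CommRingCat.of k) := GLinSh.stabTo a z
  haveI : LocallyOfFiniteType f := hft
  haveI : QuasiCompact f := hqc
  haveI : LocallyQuasiFinite f := LocallyQuasiFinite.of_finite_preimage_singleton f fun _ => Set.toFinite _
  show IsFinite f
  exact IsFinite.of_locallyQuasiFinite f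

end Field

end Groth.Agent.GIT36.FinAction
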