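import Groth.Agent.GIT36.FinAction.Scheme
import Groth.Agent.GIT36.FinAction.Descend
import Groth.Agent.GIT36.AffQuot.Main
import Groth.Agent.GIT36.FinAction.Open

/-!
Affine pieces over a field of characteristic zero: quasi-finite stabiliser scheme gives a finite orbit map.
-/

set_option autoImplicit false
set_option backward.isDefEq.respectTransparency.types false
set_option linter.style.haveILetI false
set_option linter.unusedSectionVars false

universe u

open CategoryTheory CategoryTheory.Limits MonoidalCategory CartesianMonoidalCategory MonObj GrpObj AlgebraicGeometry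
  Opposite WithConv
open scoped TensorProduct
open Groth.Agent.GIT36.Mu Groth.Agent.FinSub96 Groth.Agent.H98EqInt

noncomputable section

namespace Groth.Agent.GIT36.FinAction

variable {k : Type u} [Field k] [CharZero k] {G X : Over (St k)} [GrpObj G] [IsAffine X.left]
  [LocallyOfFiniteType X.hom] [LocallyOfFiniteType G.hom] [QuasiCompact G.hom]
  {A : Type u} [CommRing A] [HopfAlgebra k A] [Algebra.FiniteType k A] (ψ : GMod80.sp k A ≅ G) [IsMonHom ψ.hom]
  (a : AlgGrp.Action G X)

include ψ in
theorem isFinite_psi_of_quasiFinite (hLR : HopfRep.IsLinearlyReductive k A) [LocallyQuasiFinite (stToX a)] :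
    IsFinite (GIT.psi a (𝟙 X)).left := by
  letI := AffQuot.comod ψ a
  haveI := AffQuot.isCoactAlg ψ a
  haveI : Algebra.FiniteType k Γ(X.left, ⊤) := by
    have h : LocallyOfFiniteType (Spec.map (CommRingCat.ofHom (algebraMap k Γ(X.left, ⊤)))) := by
      haveI : IsIso (AffQuot.chi X).hom.left := ((Over.forget _).mapIso (AffQuot.chi X)).isIso_hom
      have e : Spec.map (CommRingCat.ofHom (algebraMap k Γ(X.left, ⊤))) = (AffQuot.chi X).hom.left ≫ X.hom :=
        (Over.w (AffQuot.chi X).hom).symm
      rw [e]
      infer_instance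
    rw [HasRingHomProperty.Spec_iff (P := @LocallyOfFiniteType)] at h
    exact RingHom.finiteType_algebraMap.1 h
  refine isFinite_psi_of_orbitFn ψ a (finite_orbitFn_of_geom hLR fun x => ?_)
  let K := AlgebraicClosure k
  let f : VecGrp.pt k K ⟶ X := AffQuot.xe x
  haveI : IsSeparated X.hom := inferInstance
  haveI := quasiCompact_stToX a
  let s₀ : GLinSh.stab a f ⟶ Spec (CommRingCat.of K) := GLinSh.stabTo a f
  have hs₀ : LocallyQuasiFinite s₀ ∧ QuasiCompact s₀ ∧ LocallyOfFiniteType s₀ := by
    haveI := H98EqInt.stToX_locallyOfFiniteType a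
    show LocallyQuasiFinite (GLinSh.stabTo a f) ∧ QuasiCompact (GLinSh.stabTo a f) ∧
      LocallyOfFiniteType (GLinSh.stabTo a f)
    rw [show GLinSh.stabTo a f = (Stab.stabIso a f).hom ≫ pullback.snd _ _ from (pullback.lift_snd _ _ _).symm]
    exact ⟨inferInstance, inferInstance, inferInstance⟩
  haveI := hs₀.1
  haveI := hs₀.2.1
  haveI := hs₀.2.2
  haveI : IsFinite s₀ := IsFinite.of_locallyQuasiFinite s₀
  haveI : Finite (GLinSh.stab a f) := by
    haveI : Subsingleton (Spec (CommRingCat.of K)) := inferInstanceAs (Subsingleton (PrimeSpectrum K))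
    exact Set.finite_univ_iff.mp ((s₀.finite_preimage_singleton (IsLocalRing.closedPoint K)).subset
      fun z _ => Subsingleton.elim _ _)
  haveI : Finite {s : Spec (CommRingCat.of K) ⟶ GLinSh.stab a f // s ≫ s₀ = 𝟙 _} :=
    Finite.of_equiv _ (pointEquivClosedPoint s₀).symm
  let m : (A →ₐ[k] K) → (VecGrp.pt k K ⟶ G) := fun g => (GMod80.e ψ K (toConv g))⁻¹
  have hm : Function.Injective m := fun g g' e =>
    WithConv.toConv_injective ((GMod80.e ψ K).injective (inv_injective e))
  have hfix : ∀ g : A →ₐ[k] K, (Algebra.TensorProduct.lift x g fun _ _ => Commute.all _ _).comp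
      (GLin.coactAlgHom k A Γ(X.left, ⊤)) = x → lift (m g) f ≫ a.act = f := by
    intro g hg
    show AffQuot.act' ψ a (toConv g) x = _
    rw [AffQuot.act'_eq]
    refine congrArg AffQuot.xe (Eq.trans ?_ hg)
    rfl
  refine Set.finite_coe_iff.mp (Finite.of_injective
    (β := {s : Spec (CommRingCat.of K) ⟶ GLinSh.stab a f // s ≫ s₀ = 𝟙 _}) (fun g =>
      ⟨pullback.lift (lift (m g.1) (𝟙 _)).left (𝟙 _) (by
        rw [← Over.comp_left, GIT.psi, comp_lift, lift_whiskerLeft_assoc, lift_snd, Category.id_comp,
          hfix g.1 g.2]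
        exact (Category.id_comp _).symm), pullback.lift_snd _ _ _⟩) ?_)
  intro g g' e
  have h1 := congrArg (fun s => s.1 ≫ Stab.stGP a f) e
  simp only at h1
  erw [pullback.lift_fst, pullback.lift_fst] at h1
  have h2 := congrArg (· ≫ fst G (VecGrp.pt k K)) (Over.OverMorphism.ext h1)
  simp only [lift_fst] at h2
  exact Subtype.ext (hm h2)

end Groth.Agent.GIT36.FinAction
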