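import Groth.Agent.GIT36.FinAction.Open
import Groth.Agent.GIT36.AffQuot.Main
import Groth.Agent.GIT36.Sections.Extend
import Groth.Agent.GIT36.Proj.Functions

/-!
Invariant affine neighbourhoods with finite stabilisers, and properness on the properly stable locus.
-/

set_option autoImplicit false
set_option backward.isDefEq.respectTransparency.types false
set_option linter.style.haveILetI false
set_option linter.unusedSectionVars false

universe u

open CategoryTheory CategoryTheory.Limits MonoidalCategory CartesianMonoidalCategory MonObj GrpObj AlgebraicGeometry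
  TopologicalSpace
open Groth.Agent.GIT36.Mu Groth.Agent.H98EqInt
open Groth.Agent.GIT36.Proj Groth.Agent.FinSub96

noncomputable section

namespace Groth.Agent.GIT36.FinAction

variable {k : Type u} [Field k] [IsAlgClosed k] {G : Over (St k)} [GrpObj G]
  {A : Type u} [CommRing A] [HopfAlgebra k A] (ψ : GMod80.sp k A ≅ G) [IsMonHom ψ.hom]

section Affine

variable [IsAffine G.left] [LocallyOfFiniteType G.hom] {Z : Over (St k)} [IsAffine Z.left]
  [LocallyOfFiniteType Z.hom] (a : AlgGrp.Action G Z)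

/-- the points with infinite stabiliser form an invariant set -/
theorem act_mem_infinite (p : (G ⊗ Z).left) (hp : ¬ (stToX a ⁻¹' {(snd G Z).left p}).Finite) :
    ¬ (stToX a ⁻¹' {a.act.left p}).Finite := by
  intro hfin
  let O : Z.left.Opens := ⟨{x | (stToX a ⁻¹' {x}).Finite}, isOpen_finite_fibre a⟩
  let L : Set (G ⊗ Z).left := (snd G Z).left.base ⁻¹' (O : Set Z.left)ᶜ ∩ a.act.left.base ⁻¹' (O : Set Z.left)
  have hL : IsLocallyClosed L :=
    ((O.isOpen.isClosed_compl.preimage (snd G Z).left.continuous).isLocallyClosed).inter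
      ((O.isOpen.preimage a.act.left.continuous).isLocallyClosed)
  let hGZ : (G ⊗ Z).left ⟶ St k := (G ⊗ Z).hom
  haveI : LocallyOfFiniteType hGZ := by
    show LocallyOfFiniteType (pullback.fst G.hom Z.hom ≫ G.hom)
    infer_instance
  haveI : JacobsonSpace (G ⊗ Z).left := LocallyOfFiniteType.jacobsonSpace hGZ
  obtain ⟨c, hc, hcc⟩ := nonempty_inter_closedPoints (Z := L) ⟨p, hp, hfin⟩ hL
  obtain ⟨⟨s, hs⟩, hsc⟩ := (pointEquivClosedPoint hGZ).surjective ⟨c, hcc⟩
  let m : Pt k ⟶ G ⊗ Z := Over.homMk s hs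
  have hmc : m.left (IsLocalRing.closedPoint k) = c := congrArg Subtype.val hsc
  set g := m ≫ fst G Z
  set z := m ≫ snd G Z
  have hm : lift g z = m := by simp [g, z]
  have hgz : ((lift g z) ≫ a.act).left (IsLocalRing.closedPoint k) = a.act.left c := by
    rw [hm, Over.comp_left, Scheme.Hom.comp_apply, hmc]
  have h1 : {h : Pt k ⟶ G | lift h (lift g z ≫ a.act) ≫ a.act = lift g z ≫ a.act}.Finite := by
    refine finite_pts_of_fibre a _ ?_
    rw [hgz]
    exact hc.2
  have h2 : {h : Pt k ⟶ G | lift h z ≫ a.act = z}.Finite := by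
    refine (h1.preimage (f := fun h => g * h * g⁻¹) fun h _ h' _ e => by simpa using e).subset ?_
    intro h hh
    show lift (g * h * g⁻¹) (lift g z ≫ a.act) ≫ a.act = lift g z ≫ a.act
    rw [AlgGrp.Action.lift_mul_act, AlgGrp.Action.lift_mul_act, ← AlgGrp.Action.lift_mul_act a g⁻¹ g,
      inv_mul_cancel, AlgGrp.Action.lift_one_act, show lift h z ≫ a.act = z from hh]
  have h3 : (stToX a ⁻¹' {z.left (IsLocalRing.closedPoint k)}).Finite := by
    refine finite_fibre_of_stabTo a (T := Pt k) (Iso.refl _) z (isFinite_stabTo_of_pts a z h2) ?_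
    haveI : Subsingleton (Pt k).left := inferInstanceAs (Subsingleton (PrimeSpectrum k))
    exact Set.eq_singleton_iff_unique_mem.2
      ⟨⟨_, rfl⟩, fun _ ⟨q, hq⟩ => hq ▸ congrArg _ (Subsingleton.elim _ _)⟩
  refine hc.1 ?_
  rw [show (snd G Z).left c = z.left (IsLocalRing.closedPoint k) by
    rw [← hmc, ← Scheme.Hom.comp_apply]; rfl]
  exact h3

include ψ in
/-- an invariant principal neighbourhood on which the stabilisers are finite -/
theorem exists_invariant_function [Algebra.FiniteType k A] (hLR : HopfRep.IsLinearlyReductive k A)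
    (hc : GIT.IsClosedAction a) (x : Z.left) (hx : (stToX a ⁻¹' {x}).Finite) :
    ∃ q : Γ(Z.left, ⊤), AffQuot.Inv a q ∧ x ∈ Z.left.basicOpen q ∧
      ∀ z : Pt k ⟶ Z, z.left (IsLocalRing.closedPoint k) ∈ Z.left.basicOpen q →
        {g : Pt k ⟶ G | lift g z ≫ a.act = z}.Finite := by
  obtain ⟨Y, φ, hY, hφ, -, -⟩ := AffQuot.exists_affQ ψ hLR Z a
  haveI := hY
  let C : Set Z.left := {y | (stToX a ⁻¹' {y}).Finite}ᶜ
  have hC : IsClosed C := (isOpen_finite_fibre a).isClosed_compl
  have hCinv : a.act.left.base '' ((snd G Z).left.base ⁻¹' C) ⊆ C := by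
    rintro _ ⟨p, hp, rfl⟩
    exact act_mem_infinite a p hp
  obtain ⟨hcl, -⟩ := hφ.images ψ hLR (J := PUnit) (fun _ => C) (fun _ => ⟨hC, hCinv⟩)
  rw [Set.iInter_const] at hcl
  have hnot : φ.left x ∉ φ.left.base '' C := by
    rintro ⟨y, hy, hyx⟩
    obtain ⟨z, hz₁, hz₂⟩ := Scheme.Pullback.exists_preimage_pullback (f := φ.left) (g := φ.left) x y hyx.symm
    obtain ⟨p, hp⟩ := hφ.surjective_PsiY ψ hLR hc z
    refine hCinv ⟨p, ?_, ?_⟩ hx
    · show (snd G Z).left p ∈ C
      rw [← Quot.PsiY_snd hφ.inv, Scheme.Hom.comp_apply, hp, hz₂]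
      exact hy
    · rw [← Quot.PsiY_fst hφ.inv, Scheme.Hom.comp_apply, hp, hz₁]
  obtain ⟨q', hq', hxq'⟩ := (isAffineOpen_top Y.left).exists_basicOpen_le
    (V := ⟨(φ.left.base '' C)ᶜ, hcl.isOpen_compl⟩) ⟨φ.left x, hnot⟩ trivial
  have hb : Z.left.basicOpen (φ.left.appTop q') = φ.left ⁻¹ᵁ Y.left.basicOpen q' :=
    (Scheme.Hom.preimage_basicOpen_top _ _).symm
  refine ⟨φ.left.appTop q', AffQuot.inv_appTop hφ.inv q', by rw [hb]; exact hxq', fun z hz => ?_⟩
  rw [hb] at hz
  refine finite_pts_of_fibre a z ?_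
  by_contra hzC
  exact hq' hz ⟨_, hzC, rfl⟩

end Affine

section Open

variable [CharZero k] {X : Over (St k)} [LocallyOfFiniteType X.hom] [QuasiCompact X.hom]
  {a : AlgGrp.Action G X} (B : GLinSh.LinBun G a)

theorem isClosedAction_res (U : X.left.Opens) (hU : a.act.left ⁻¹ᵁ U = (snd G X).left ⁻¹ᵁ U)
    (hcl : GLinSh.ClosedOrbitsOn a U) : GIT.IsClosedAction (resAct a U hU) := by
  intro Ω _ _ T eT f
  have h := hcl Ω T eT (f ≫ openIncl U) (by
    rintro _ ⟨t, rfl⟩
    exact (f.left t).2)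
  let j : openObj U ⊗ T ⟶ X ⊗ T := openIncl U ▷ T
  haveI : IsOpenImmersion j.left := by
    rw [show j = openIncl U ⊗ₘ 𝟙 T from (tensorHom_id _ _).symm]
    exact isOpenImmersion_tensorHom _ _
  have e₁ : GIT.psi (resAct a U hU) f ≫ j = GIT.psi a (f ≫ openIncl U) := by
    apply CartesianMonoidalCategory.hom_ext
    · simp only [GIT.psi, j, Category.assoc, whiskerRight_fst, lift_fst_assoc, lift_fst]
      rw [resAct_comp, MonoidalCategory.whiskerLeft_comp_assoc]
    · simp only [GIT.psi, j, Category.assoc, whiskerRight_snd, lift_snd]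
  have hmem : ∀ p, j.left p ∈ (fst X T).left ⁻¹ᵁ U := fun p => by
    show (j ≫ fst X T).left p ∈ U
    rw [whiskerRight_fst]
    exact ((fst (openObj U) T).left p).2
  convert h.preimage (f := fun p => (⟨j.left p, hmem p⟩ : (fst X T).left ⁻¹ᵁ U))
    (j.left.continuous.subtype_mk _) using 1
  ext p
  show p ∈ Set.range _ ↔ j.left p ∈ Set.range _
  rw [← e₁, Over.comp_left, Scheme.Hom.comp_base, TopCat.coe_comp, Set.range_comp]
  exact (Function.Injective.mem_set_image j.left.isOpenEmbedding.injective).symm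

theorem inv_topIso (U : X.left.Opens) (hU : a.act.left ⁻¹ᵁ U = (snd G X).left ⁻¹ᵁ U)
    (q : Γ((openObj U).left, ⊤)) (hq : AffQuot.Inv (resAct a U hU) q) :
    a.act.left.appLE U ((snd G X).left ⁻¹ᵁ U) hU.ge (U.topIso.hom q) =
      (snd G X).left.appLE U ((snd G X).left ⁻¹ᵁ U) le_rfl (U.topIso.hom q) := by
  let i := (G ◁ openIncl U).left
  haveI : IsOpenImmersion i := by
    show IsOpenImmersion (G ◁ openIncl U).left
    rw [← id_tensorHom]
    exact isOpenImmersion_tensorHom _ _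
  have hi : i ⁻¹ᵁ ((snd G X).left ⁻¹ᵁ U) = ⊤ := by
    ext p
    refine ⟨fun _ => trivial, fun _ => ?_⟩
    show ((G ◁ openIncl U).left ≫ (snd G X).left) p ∈ U
    rw [← Over.comp_left, whiskerLeft_snd]
    exact ((snd G (openObj U)).left p).2
  have hinj : Function.Injective (i.appLE ((snd G X).left ⁻¹ᵁ U) ⊤ hi.ge) := by
    have hr : (snd G X).left ⁻¹ᵁ U ≤ i.opensRange := by
      intro p hp
      show p ∈ Set.range (G ◁ openIncl U).left
      rw [range_whiskerLeft_openIncl]
      exact hp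
    haveI : IsIso (i.app ((snd G X).left ⁻¹ᵁ U)) := i.isIso_app _ hr
    haveI : IsIso ((G ⊗ openObj U).left.presheaf.map (homOfLE hi.ge).op) := by
      rw [show (homOfLE hi.ge) = eqToHom hi.symm from Subsingleton.elim _ _]
      infer_instance
    rw [Scheme.Hom.appLE]
    exact (ConcreteCategory.bijective_of_isIso
      (i.app ((snd G X).left ⁻¹ᵁ U) ≫ (G ⊗ openObj U).left.presheaf.map (homOfLE hi.ge).op)).1
  apply hinj
  have hq' : U.ι.appLE U ⊤ U.ι_preimage_self.ge (U.topIso.hom q) = q := by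
    have e : U.topIso.hom ≫ U.ι.appLE U ⊤ U.ι_preimage_self.ge = 𝟙 _ := by
      rw [Scheme.Opens.ι_appLE, Scheme.Opens.topIso_hom]
      exact (X.left.presheaf.map_comp _ _).symm.trans (X.left.presheaf.map_id _)
    exact congr($e q)
  have key : ∀ (σ : G ⊗ openObj U ⟶ openObj U) (τ : G ⊗ X ⟶ X), σ ≫ openIncl U = (G ◁ openIncl U) ≫ τ →
      ∀ (e : ((snd G X).left ⁻¹ᵁ U) ≤ τ.left ⁻¹ᵁ U),
        i.appLE _ ⊤ hi.ge (τ.left.appLE U _ e (U.topIso.hom q)) = σ.left.appTop q := fun σ τ h e => by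
    have h' : i ≫ τ.left = σ.left ≫ U.ι := (congrArg CategoryTheory.CommaMorphism.left h).symm
    conv_rhs => rw [← hq']
    rw [show σ.left.appTop = σ.left.appLE ⊤ ⊤ le_rfl from Scheme.Hom.app_eq_appLE _]
    exact (congr($(Scheme.Hom.appLE_comp_appLE i τ.left _ _ _ e hi.ge) (U.topIso.hom q))).trans
      ((congr($(LineBundle.appLE_congr_hom h' _ _).hom (U.topIso.hom q))).trans
        (congr($(Scheme.Hom.appLE_comp_appLE σ.left U.ι _ _ _ U.ι_preimage_self.ge le_rfl) (U.topIso.hom q))).symm)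
  exact (key _ a.act (resAct_comp a U hU) hU.ge).trans (hq.trans (key _ (snd G X) (whiskerLeft_snd ..).symm le_rfl).symm)

/-- a properly stable point has an invariant affine neighbourhood `X_F` with finite stabilisers -/
theorem exists_nhd (hG : Red.IsReductive G) (x : X.left) (hx : B.IsProperlyStablePt x) :
    ∃ (n : ℕ) (F : Γ(B.V.left, ⊤)) (W : X.left.Opens), 1 ≤ n ∧ B.IsInvSection n F ∧
      (W : Set X.left) = GLinSh.nonvanishing B.π F ∧ IsAffineOpen W ∧ x ∈ W ∧
      ∀ z : Pt k ⟶ X, z.left (IsLocalRing.closedPoint k) ∈ W →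
        {g : Pt k ⟶ G | lift g z ≫ a.act = z}.Finite := by
  haveI := hG.1
  haveI : IsAffine G.left := isAffine_of_isAffineHom G.hom
  haveI := hG.2.1
  obtain ⟨A, _, _, ψ, hψ, hAft, hLR⟩ := AffQuot.exists_coord_linRed G hG
  haveI := hψ
  haveI := hAft
  haveI : LocallyOfFiniteType G.hom := inferInstance
  obtain ⟨⟨n, f, hn, hf, hxf, U, hU, hUa, hcl⟩, hstab⟩ := hx
  rw [← hU] at hxf
  have hinv := Sections.preimage_invariant hf hU
  haveI : IsAffine (openObj U).left := hUa
  haveI : LocallyOfFiniteType (openObj U).hom := inferInstanceAs (LocallyOfFiniteType (U.ι ≫ X.hom))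
  let a₀ := resAct a U hinv
  -- a geometric point over x
  let κ := X.left.residueField x
  let Ω := AlgebraicClosure κ
  let T : Over (St k) := Over.mk (Spec.map (CommRingCat.ofHom (algebraMap κ Ω)) ≫ X.left.fromSpecResidueField x ≫ X.hom)
  let fT : T ⟶ X := Over.homMk (Spec.map (CommRingCat.ofHom (algebraMap κ Ω)) ≫ X.left.fromSpecResidueField x)
    (Category.assoc _ _ _)
  have hrange : Set.range fT.left.base = {x} := by
    refine Set.eq_singleton_iff_unique_mem.2 ⟨⟨IsLocalRing.closedPoint Ω, ?_⟩, ?_⟩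
    · exact Scheme.fromSpecResidueField_apply x _
    · rintro _ ⟨q, rfl⟩
      exact Scheme.fromSpecResidueField_apply x _
  let fU : T ⟶ openObj U := Over.homMk (IsOpenImmersion.lift U.ι fT.left (by
      rw [Scheme.Opens.range_ι, hrange]; exact Set.singleton_subset_iff.2 hxf)) (by
    show _ ≫ U.ι ≫ X.hom = _
    rw [IsOpenImmersion.lift_fac_assoc]
    exact Over.w fT)
  have hfU : fU ≫ openIncl U = fT := Over.OverMorphism.ext (IsOpenImmersion.lift_fac _ _ _)
  have hx0 : (stToX a₀ ⁻¹' {(⟨x, hxf⟩ : U)}).Finite := by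
    refine finite_fibre_of_stabTo a₀ (T := T) (Iso.refl _) fU ?_ ?_
    · rw [isFinite_stabTo_res, hfU]
      exact hstab Ω T (Iso.refl _) fT hrange
    · refine Set.eq_singleton_iff_unique_mem.2 ⟨?_, ?_⟩
      · obtain ⟨q, hq⟩ := (hrange.symm ▸ Set.mem_singleton x : x ∈ Set.range fT.left.base)
        refine ⟨q, Subtype.ext ?_⟩
        show (fU ≫ openIncl U).left q = x
        rw [hfU]
        exact hq
      · rintro _ ⟨q, rfl⟩
        refine Subtype.ext ?_
        show (fU ≫ openIncl U).left q = x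
        rw [hfU]
        exact hrange.subset ⟨q, rfl⟩
  have hc : GIT.IsClosedAction a₀ := isClosedAction_res U hinv hcl
  obtain ⟨q, hq, hxq, hpts⟩ := exists_invariant_function ψ a₀ hLR hc ⟨x, hxf⟩ hx0
  haveI : CompactSpace X.left := QuasiCompact.compactSpace_of_compactSpace X.hom
  haveI := quasiCompact_total B
  haveI : CompactSpace B.V.left := QuasiCompact.compactSpace_of_compactSpace B.V.hom
  haveI : IsLocallyNoetherian X.left := LocallyOfFiniteType.isLocallyNoetherian X.hom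
  haveI := quasiSeparated_total B
  haveI : QuasiSeparatedSpace B.V.left := quasiSeparatedSpace_of_quasiSeparated B.V.hom
  haveI : CompactSpace (G ⊗ B.V).left := by
    haveI : QuasiCompact (G ⊗ B.V).hom := by
      show QuasiCompact (pullback.fst G.hom B.V.hom ≫ G.hom)
      infer_instance
    exact QuasiCompact.compactSpace_of_compactSpace (G ⊗ B.V).hom
  obtain ⟨M, F, hM, hF, hnv⟩ := Sections.exists_invSection_extension B hf hU (U.topIso.hom q) hinv
    (inv_topIso U hinv q hq)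
  have hbo : U.ι ''ᵁ U.toScheme.basicOpen q = X.left.basicOpen (U.topIso.hom q) := by
    conv_rhs => rw [← Scheme.Opens.ι_image_basicOpen_topIso_inv]
    rw [← CommRingCat.comp_apply, Iso.hom_inv_id]
    rfl
  refine ⟨M * n, F, X.left.basicOpen (U.topIso.hom q), Nat.mul_pos hM hn, hF, hnv.symm, hUa.basicOpen _, ?_,
    fun z hz => ?_⟩
  · rw [← hbo]
    exact ⟨⟨x, hxf⟩, hxq, rfl⟩
  · have hzU : z.left (IsLocalRing.closedPoint k) ∈ U := X.left.basicOpen_le _ hz
    let z₀ : Pt k ⟶ openObj U := Over.homMk (IsOpenImmersion.lift U.ι z.left (by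
        rw [Scheme.Opens.range_ι]
        rintro _ ⟨q, rfl⟩
        rw [Subsingleton.elim (α := PrimeSpectrum k) q (IsLocalRing.closedPoint k)]
        exact hzU)) (by
      show _ ≫ U.ι ≫ X.hom = _
      rw [IsOpenImmersion.lift_fac_assoc]
      exact Over.w z)
    have hz₀ : z₀ ≫ openIncl U = z := Over.OverMorphism.ext (IsOpenImmersion.lift_fac _ _ _)
    refine (hpts z₀ ?_).subset fun g hg => ?_
    · rw [← hbo] at hz
      obtain ⟨p, hp, hpz⟩ := hz
      rwa [show z₀.left (IsLocalRing.closedPoint k) = p from U.ι.isOpenEmbedding.injective (by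
        refine Eq.trans ?_ hpz.symm
        rw [← hz₀]; rfl)]
    · refine openIncl_cancel ?_
      rw [Category.assoc, resAct_comp, lift_whiskerLeft_assoc, hz₀]
      exact hg

end Open

end Groth.Agent.GIT36.FinAction

namespace Groth.Agent.GIT36.FinAction

open Groth.Agent.FinSub96

section Locus

variable {k : Type u} [Field k] {G X : Over (St k)} [GrpObj G] {a : AlgGrp.Action G X}

theorem appTop_topIso_inv {P : Over (St k)} (W : X.left.Opens) (h : P ⟶ openObj W) (s : Γ(X.left, W))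
    (e : (⊤ : P.left.Opens) ≤ (h ≫ openIncl W).left ⁻¹ᵁ W) :
    h.left.appTop (W.topIso.inv s) = (h ≫ openIncl W).left.appLE W ⊤ e s := by
  have e' : W.ι.appLE W ⊤ W.ι_preimage_self.ge = W.topIso.inv := by
    rw [Scheme.Opens.ι_appLE, Scheme.Opens.topIso_inv]
    exact congrArg X.left.presheaf.map (Subsingleton.elim _ _)
  rw [show h.left.appTop = h.left.appLE ⊤ ⊤ le_rfl from Scheme.Hom.app_eq_appLE _, ← e', ← CommRingCat.comp_apply,
    Scheme.Hom.appLE_comp_appLE]
  rfl

theorem rs_comp_appLE {D W : X.left.Opens} (σ : G ⊗ X ⟶ X) {O : (G ⊗ X).left.Opens} (hle : D ≤ W)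
    (e : O ≤ σ.left ⁻¹ᵁ D) (r : Γ(X.left, W)) :
    σ.left.appLE D O e (Sections.rs hle r) = σ.left.appLE W O (e.trans (σ.left.preimage_mono hle)) r := by
  rw [Sections.rs, ← CommRingCat.comp_apply, Scheme.Hom.map_appLE]

/-- pairs of loci of invariant sections -/
theorem isFinite_pairPsi_nv (B : GLinSh.LinBun G a) {n m : ℕ} {F F' : Γ(B.V.left, ⊤)} (hn : 1 ≤ n) (hm : 1 ≤ m)
    (hF : B.IsInvSection n F) (hF' : B.IsInvSection m F') {W W' : X.left.Opens}
    (hW : (W : Set X.left) = GLinSh.nonvanishing B.π F) (hW' : (W' : Set X.left) = GLinSh.nonvanishing B.π F')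
    (hWa : IsAffineOpen W) (hinv : a.act.left ⁻¹ᵁ (W ⊓ W') = (snd G X).left ⁻¹ᵁ (W ⊓ W'))
    (hfin : IsAffineOpen (W ⊓ W') → IsFinite (GIT.psi (resAct a _ hinv) (𝟙 _)).left) :
    IsFinite (pairPsi a hinv).left := by
  haveI := B.atlas.affine
  let A := Sections.atlasB B
  have hf : B.IsInvSection (n * m) (F ^ m) := by rw [Nat.mul_comm]; exact Sections.inv_pow' hF m
  have hg : B.IsInvSection (n * m) (F' ^ n) := Sections.inv_pow' hF' n
  have hfW : Sections.nv B.π.left (F ^ m) = (W : Set X.left) := by rw [Sections.nv_pow F hm, hW]; rfl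
  have hgW : Sections.nv B.π.left (F' ^ n) = (W' : Set X.left) := by rw [Sections.nv_pow F' hn, hW']; rfl
  obtain ⟨s, hs⟩ := Sections.exists_ratio (A := A) (hf := hf.1) (hg := hg.1) (D := W) hfW.ge
  obtain ⟨t, ht⟩ := Sections.exists_ratio (A := A) (hf := hg.1) (hg := hf.1) (D := W') hgW.ge
  have hbs : X.left.basicOpen s = W ⊓ W' := by
    ext1
    rw [Sections.IsRatio.basicOpen (A := A) (hf := hf.1) (hg := hg.1) hfW.ge hs, hgW]
    rfl
  have hbt : X.left.basicOpen t = W ⊓ W' := by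
    ext1
    rw [Sections.IsRatio.basicOpen (A := A) (hf := hg.1) (hg := hf.1) hgW.ge ht, hfW]
    exact Set.inter_comm _ _
  have hVf : ((W ⊓ W') : Set X.left) ⊆ Sections.nv B.π.left (F ^ m) := fun x hx => hfW.ge hx.1
  have hVg : ((W ⊓ W') : Set X.left) ⊆ Sections.nv B.π.left (F' ^ n) := fun x hx => hgW.ge hx.2
  have hprod : Sections.rs (inf_le_left : (W ⊓ W') ≤ W) s * Sections.rs (inf_le_right : (W ⊓ W') ≤ W') t = 1 := by
    refine Sections.ratio_unique (A := A) (hf := hf.1) hVf ?_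
    have h1 : Sections.IsRatio B.π.left (F ^ m) (F' ^ n) (Sections.rs (inf_le_left : (W ⊓ W') ≤ W) s) := hs.res _
    have h2 : Sections.IsRatio B.π.left (F' ^ n) (F ^ m) (Sections.rs (inf_le_right : (W ⊓ W') ≤ W') t) := ht.res _
    rw [Sections.IsRatio] at h1 h2
    rw [map_one, _root_.one_mul, map_mul (B.π.left.app (W ⊓ W')).hom, _root_.mul_comm (B.π.left.app (W ⊓ W') _),
      _root_.mul_assoc, h1, h2]
  haveI : IsFinite (GIT.psi (resAct a (W ⊓ W') hinv) (𝟙 _)).left := hfin (by have h' := hWa.basicOpen s; rwa [hbs] at h')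
  let i := (G ◁ openIncl (W ⊓ W')).left
  have hi : (⊤ : (G ⊗ openObj (W ⊓ W')).left.Opens) ≤ i ⁻¹ᵁ ((snd G X).left ⁻¹ᵁ (W ⊓ W')) := fun p _ => by
    show ((G ◁ openIncl (W ⊓ W')).left ≫ (snd G X).left) p ∈ (W ⊓ W')
    rw [← Over.comp_left, whiskerLeft_snd]
    exact ((snd G (openObj (W ⊓ W'))).left p).2
  have key : ∀ {D : X.left.Opens} (hD : (W ⊓ W') ≤ D) (σ' : G ⊗ openObj (W ⊓ W') ⟶ openObj (W ⊓ W')) (σ : G ⊗ X ⟶ X)
      (hσ : (snd G X).left ⁻¹ᵁ (W ⊓ W') ≤ σ.left ⁻¹ᵁ (W ⊓ W')), σ' ≫ openIncl (W ⊓ W') = (G ◁ openIncl (W ⊓ W')) ≫ σ → ∀ r : Γ(X.left, D),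
      (σ' ≫ inclLE hD).left.appTop (D.topIso.inv r) =
        i.appLE _ ⊤ hi (σ.left.appLE (W ⊓ W') _ hσ (Sections.rs hD r)) := by
    intro D hD σ' σ hσ hσσ r
    have he : (σ' ≫ inclLE hD) ≫ openIncl D = (G ◁ openIncl (W ⊓ W')) ≫ σ := by rw [Category.assoc, inclLE_comp, hσσ]
    rw [appTop_topIso_inv D _ r (fun p _ => ((σ' ≫ inclLE hD).left p).2), rs_comp_appLE σ hD hσ,
      ← CommRingCat.comp_apply, Scheme.Hom.appLE_comp_appLE]
    exact congr($(LineBundle.appLE_congr_hom (congrArg CategoryTheory.CommaMorphism.left he) _ _).hom r)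
  have hsinv := Sections.ratio_invariant hf hg.2 (D := (W ⊓ W')) hVf hinv (hs.res (inf_le_left : (W ⊓ W') ≤ W))
  have htinv := Sections.ratio_invariant hg hf.2 (D := (W ⊓ W')) hVg hinv (ht.res (inf_le_right : (W ⊓ W') ≤ W'))
  have hfst : GIT.psi (resAct a (W ⊓ W') hinv) (𝟙 _) ≫ fst _ _ = (resAct a (W ⊓ W') hinv).act := by
    rw [GIT.psi, lift_fst, whiskerLeft_id, Category.id_comp]
  have hsnd : GIT.psi (resAct a (W ⊓ W') hinv) (𝟙 _) ≫ snd _ _ = snd G (openObj (W ⊓ W')) := by rw [GIT.psi, lift_snd]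
  haveI : IsOpenImmersion (inclLE (inf_le_left : (W ⊓ W') ≤ W)).left :=
    inferInstanceAs (IsOpenImmersion (X.left.homOfLE (inf_le_left : (W ⊓ W') ≤ W)))
  haveI : IsOpenImmersion (inclLE (inf_le_right : (W ⊓ W') ≤ W')).left :=
    inferInstanceAs (IsOpenImmersion (X.left.homOfLE (inf_le_right : (W ⊓ W') ≤ W')))
  have hrg : ∀ {D : X.left.Opens} (hD : (W ⊓ W') ≤ D) (r : Γ(X.left, D)), X.left.basicOpen r = (W ⊓ W') →
      ((openObj D).left.basicOpen (D.topIso.inv r) : Set (openObj D).left) = Set.range (inclLE hD).left := by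
    intro D hD r hr
    ext z
    constructor
    · intro hz
      have hzV : D.ι z ∈ (W ⊓ W') := by
        rw [← hr, ← Scheme.Opens.ι_image_basicOpen_topIso_inv]
        exact ⟨z, hz, rfl⟩
      exact ⟨⟨D.ι z, hzV⟩, D.ι.isOpenEmbedding.injective
        (by rw [← Scheme.Hom.comp_apply]; exact congr($(X.left.homOfLE_ι hD) ⟨D.ι z, hzV⟩))⟩
    · rintro ⟨p, rfl⟩
      have hpV : D.ι ((inclLE hD).left p) ∈ X.left.basicOpen r := by
        rw [hr, ← Scheme.Hom.comp_apply, show (inclLE hD).left ≫ D.ι = (W ⊓ W').ι from X.left.homOfLE_ι hD]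
        exact p.2
      rw [← Scheme.Opens.ι_image_basicOpen_topIso_inv] at hpV
      obtain ⟨q, hq, hqp⟩ := hpV
      rwa [← D.ι.isOpenEmbedding.injective hqp]
  refine isFinite_pair_of_functions _ _ _ (W.topIso.inv s) (W.topIso.inv s) (W'.topIso.inv t) (W'.topIso.inv t)
    (hrg _ s hbs) (hrg _ t hbt) ?_ ?_
  · rw [← Category.assoc, hfst, ← Category.assoc, hsnd, key _ _ a.act hinv.ge (resAct_comp a (W ⊓ W') hinv), hsinv,
      key _ _ (snd G X) le_rfl (whiskerLeft_snd ..).symm, ← map_mul, ← map_mul, hprod, map_one, map_one]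
  · rw [← Category.assoc, hsnd, ← Category.assoc, hfst, key _ _ a.act hinv.ge (resAct_comp a (W ⊓ W') hinv), hsinv,
      key _ _ (snd G X) le_rfl (whiskerLeft_snd ..).symm, ← map_mul, ← map_mul, _root_.mul_comm, hprod, map_one,
      map_one]

variable [IsAlgClosed k] [CharZero k] [LocallyOfFiniteType X.hom] [QuasiCompact X.hom]

/-- the properly stable locus is open with proper action -/
theorem psLocus_proper (hG : Red.IsReductive G) (B : GLinSh.LinBun G a) :
    ∃ U : X.left.Opens, (U : Set X.left) = B.psLocus ∧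
      ∀ (aP : AlgGrp.Action G (openObj U)) (jU : openObj U ⟶ X),
        jU.left = U.ι → aP.act ≫ jU = (G ◁ jU) ≫ a.act → IsProper (GIT.psi aP (𝟙 (openObj U))).left := by
  haveI := hG.1
  haveI : IsAffine G.left := isAffine_of_isAffineHom G.hom
  haveI := hG.2.1
  obtain ⟨A, _, _, ψ, hψ, hAft, hLR⟩ := AffQuot.exists_coord_linRed G hG
  haveI := hψ
  haveI := hAft
  haveI : IsReduced A := GMod80.isReduced ψ
  haveI : LocallyOfFiniteType G.hom := inferInstance
  let good : X.left.Opens → Prop := fun W => ∃ (n : ℕ) (F : Γ(B.V.left, ⊤)), 1 ≤ n ∧ B.IsInvSection n F ∧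
    (W : Set X.left) = GLinSh.nonvanishing B.π F ∧ IsAffineOpen W ∧
      ∀ z : Pt k ⟶ X, z.left (IsLocalRing.closedPoint k) ∈ W → {g : Pt k ⟶ G | lift g z ≫ a.act = z}.Finite
  have hinv : ∀ W, good W → a.act.left ⁻¹ᵁ W = (snd G X).left ⁻¹ᵁ W := fun W ⟨n, F, hn, hF, hW, _⟩ =>
    Sections.preimage_invariant hF hW
  have hpsi : ∀ (V : X.left.Opens) (hV : a.act.left ⁻¹ᵁ V = (snd G X).left ⁻¹ᵁ V), IsAffineOpen V →
      (∀ z : Pt k ⟶ X, z.left (IsLocalRing.closedPoint k) ∈ V → {g : Pt k ⟶ G | lift g z ≫ a.act = z}.Finite) →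
        IsFinite (GIT.psi (resAct a V hV) (𝟙 _)).left := by
    intro V hV hVa hst
    haveI : IsAffine (openObj V).left := hVa
    haveI : LocallyOfFiniteType (openObj V).hom := inferInstanceAs (LocallyOfFiniteType (V.ι ≫ X.hom))
    haveI : Algebra.FiniteType k Γ((openObj V).left, ⊤) := finiteType_affine (openObj V)
    refine isFinite_psi ψ _ hLR fun z => (hst (z ≫ openIncl V) (z.left (IsLocalRing.closedPoint k)).2).subset ?_
    intro g hg
    show lift g (z ≫ openIncl V) ≫ a.act = z ≫ openIncl V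
    rw [← lift_whiskerLeft g z (openIncl V), Category.assoc, ← resAct_comp a V hV, ← Category.assoc,
      Set.mem_ofPred_eq.mp hg]
  let J := {W : X.left.Opens // good W}
  refine ⟨⨆ W : J, W.1, ?_, ?_⟩
  · ext x
    rw [SetLike.mem_coe, Opens.mem_iSup]
    constructor
    · rintro ⟨⟨W, hW⟩, hx⟩
      obtain ⟨n, F, hn, hF, hWF, hWa, hst⟩ := hW
      have hWinv := Sections.preimage_invariant hF hWF
      haveI := hpsi W hWinv hWa hst
      refine ⟨⟨n, F, hn, hF, hWF ▸ hx, W, hWF, hWa, closedOrbitsOn_of_finiteStab ψ hLR a W hWa hWinv hst⟩, ?_⟩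
      intro Ω _ _ T eT f hf
      let fW : T ⟶ openObj W := Over.homMk (IsOpenImmersion.lift W.ι f.left (by
          rw [Scheme.Opens.range_ι, hf]; exact Set.singleton_subset_iff.2 hx)) (by
        show _ ≫ W.ι ≫ X.hom = _
        rw [IsOpenImmersion.lift_fac_assoc]
        exact Over.w f)
      have hfW : fW ≫ openIncl W = f := Over.OverMorphism.ext (IsOpenImmersion.lift_fac _ _ _)
      rw [← hfW, ← isFinite_stabTo_res a W hWinv]
      exact isFinite_stabTo_of_psi _ inferInstance fW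
    · intro hx
      obtain ⟨n, F, W, hn, hF, hW, hWa, hxW, hst⟩ := exists_nhd B hG x hx
      exact ⟨⟨W, n, F, hn, hF, hW, hWa, hst⟩, hxW⟩
  · set U : X.left.Opens := ⨆ W : J, W.1
    intro aP jU hj hc
    have hU : a.act.left ⁻¹ᵁ U = (snd G X).left ⁻¹ᵁ U := by
      simp only [U, Scheme.Hom.preimage_iSup]
      exact iSup_congr fun W => hinv W.1 W.2
    obtain rfl : jU = openIncl U := Over.OverMorphism.ext (hj.trans rfl)
    have hact : aP.act = (resAct a U hU).act := openIncl_cancel (hc.trans (resAct_comp a U hU).symm)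
    have hpsiU : GIT.psi aP (𝟙 (openObj U)) = GIT.psi (resAct a U hU) (𝟙 (openObj U)) := by
      rw [GIT.psi, GIT.psi, hact]
    haveI := isFinite_psi_open_of_cover a (fun W : J => W.1) U rfl hU (fun W => hinv W.1 W.2) fun W W' => by
      obtain ⟨n, F, hn, hF, hWF, hWa, hst⟩ := W.2
      obtain ⟨m, F', hm, hF', hWF', -, -⟩ := W'.2
      exact isFinite_pairPsi_nv B hn hm hF hF' hWF hWF' hWa _ fun hVa =>
        hpsi _ _ hVa fun z hz => hst z hz.1
    show IsProper (GIT.psi aP (𝟙 (openObj U))).left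
    rw [hpsiU]
    infer_instance

end Locus

end Groth.Agent.GIT36.FinAction
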